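import Cfsg.Agent.Avoid92.Fix
import Mathlib.Algebra.GroupWithZero.Subgroup
import Mathlib.GroupTheory.GroupAction.Quotient
import Mathlib.Order.SupIndep
import Mathlib.Data.SetLike.Fintype
import Mathlib.Order.Preorder.Finite
import Mathlib.GroupTheory.Index
import Mathlib.GroupTheory.PGroup

/-!
# Systems of imprimitivity from a normal elementary abelian subgroup
-/

set_option autoImplicit false

namespace Cfsg.Agent.Avoid92

open Pointwise

variable {H V : Type*} [Group H] [AddCommGroup V] [DistribMulAction H V]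

/-- A group acts irreducibly. -/
def Irr (H V : Type*) [Group H] [AddCommGroup V] [DistribMulAction H V] : Prop :=
  ∀ U : AddSubgroup V, (∀ h : H, ∀ u ∈ U, h • u ∈ U) → U = ⊥ ∨ U = ⊤

/-- A family of independent subgroups which are permuted by the group. -/
structure Blocks (H : Type*) {V : Type*} [Group H] [AddCommGroup V] [DistribMulAction H V]
    (E : Set (AddSubgroup V)) : Prop where
  ne_bot : ∀ U ∈ E, U ≠ ⊥
  smul_mem : ∀ h : H, ∀ U ∈ E, h • U ∈ E
  indep : sSupIndep E

theorem fixEl_ne_top [FaithfulSMul H V] {g : H} (hg : g ≠ 1) :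
    (fixEl g : AddSubgroup V) ≠ ⊤ := fun he => hg <| eq_of_smul_eq_smul fun v : V => by
  rw [one_smul]
  exact (he.symm ▸ AddSubgroup.mem_top v : v ∈ fixEl g)

/-- The vectors fixed by a subgroup. -/
def fixSub (Q : Subgroup H) : AddSubgroup V := ⨅ q ∈ Q, fixEl q

theorem mem_fixSub {Q : Subgroup H} {v : V} : v ∈ fixSub Q ↔ ∀ q ∈ Q, q • v = v := by
  simp [fixSub, AddSubgroup.mem_iInf]

theorem smul_mem_fixSub_of_normal {N : Subgroup H} [hN : N.Normal] (h : H) {v : V}
    (hv : v ∈ fixSub N) : h • v ∈ fixSub N := mem_fixSub.2 fun n hn => by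
  have := mem_fixSub.1 hv _ (hN.conj_mem' n hn h)
  rwa [mul_smul, mul_smul, inv_smul_eq_iff] at this

variable {p : ℕ} [hp : Fact p.Prime] [Finite H]

/-- A noncyclic elementary abelian normal subgroup of a faithful irreducible group gives blocks. -/
theorem exists_blocks (hV : ∀ v : V, p • v = 0 → v = 0) [FaithfulSMul H V] [Nontrivial V]
    (hirr : Irr H V) {N : Subgroup H} [hN : N.Normal] (hcomm : ∀ a ∈ N, ∀ b ∈ N, Commute a b)
    (hexp : ∀ a ∈ N, a ^ p = 1) (hcard : p < Nat.card N) :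
    ∃ E : Set (AddSubgroup V), Blocks H E ∧ E.Nontrivial := by
  classical
  have hfixN : (fixSub N : AddSubgroup V) = ⊥ := by
    refine (hirr _ fun h v hv => smul_mem_fixSub_of_normal h hv).resolve_right fun he => ?_
    have h1 : N = ⊥ := (Subgroup.eq_bot_iff_forall N).2 fun n hn =>
      eq_of_smul_eq_smul fun v : V => by
        rw [one_smul]; exact mem_fixSub.1 (he.symm ▸ AddSubgroup.mem_top v) n hn
    rw [h1, Subgroup.card_bot] at hcard
    exact absurd hp.out.one_lt (by omega)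
  obtain ⟨Q, -, hQmax⟩ := Finite.exists_le_maximal
    (p := fun Q : Subgroup H => Q ≤ N ∧ (fixSub Q : AddSubgroup V) ≠ ⊥) (a := ⊥)
    ⟨bot_le, fun he => (bot_ne_top : (⊥ : AddSubgroup V) ≠ ⊤) <| he.symm.trans <| by
      ext v; simp [mem_fixSub]⟩
  have : Fintype Q := Fintype.ofFinite Q
  set U : AddSubgroup V := fixSub Q with hU
  have hQN : Q ≤ N := hQmax.1.1
  have hUne : U ≠ ⊥ := hQmax.1.2
  have hmax : ∀ w ∈ U, w ≠ 0 → ∀ n ∈ N, n • w = w → n ∈ Q := by
    intro w hw hw0 n hn hnw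
    have h1 : Q ≤ MulAction.stabilizer H w ⊓ N := le_inf (fun q hq => mem_fixSub.1 hw q hq) hQN
    refine hQmax.2 ⟨inf_le_right, fun he => hw0 ?_⟩ h1 ⟨hnw, hn⟩
    rw [← AddSubgroup.mem_bot, ← he]
    exact mem_fixSub.2 fun q hq => hq.1
  refine ⟨Set.range fun h : H => h • U, ⟨?_, ?_, ?_⟩, ?_⟩
  · rintro _ ⟨h, rfl⟩ he
    refine hUne (eq_bot_iff.2 fun w hw => ?_)
    have := AddSubgroup.smul_mem_pointwise_smul w h U hw
    rw [show h • U = ⊥ from he, AddSubgroup.mem_bot, smul_eq_zero_iff_eq] at this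
    rw [this]; exact zero_mem _
  · rintro h _ ⟨g, rfl⟩
    exact ⟨h * g, mul_smul h g U⟩
  · rintro _ ⟨h, rfl⟩
    let e : V →+ V :=
      { toFun := fun v => ∑ q : Q, (h * (q : H) * h⁻¹) • v
        map_zero' := by simp
        map_add' := fun a b => by simp [Finset.sum_add_distrib] }
    have heapp : ∀ v, e v = ∑ q : Q, (h * (q : H) * h⁻¹) • v := fun v => rfl
    have hdisj : Disjoint (h • U) e.ker := by
      rw [disjoint_iff_inf_le]
      intro v hv
      obtain ⟨hv1, hv2⟩ := AddSubgroup.mem_inf.1 hv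
      obtain ⟨u, hu, rfl⟩ := (AddSubgroup.mem_smul_pointwise_iff_exists _ _ _).1 hv1
      have : Nat.card Q • (h • u) = 0 := by
        rw [← (AddMonoidHom.mem_ker.1 hv2), heapp,
          Fintype.sum_congr (fun q : Q => (h * (q : H) * h⁻¹) • (h • u)) (fun _ => h • u) fun q => by
            rw [← mul_smul, inv_mul_cancel_right, mul_smul, mem_fixSub.1 hu q q.2]]
        rw [Finset.sum_const, Finset.card_univ, Nat.card_eq_fintype_card]
      have hQp : IsPGroup p Q := fun q => ⟨1, by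
        rw [pow_one]; exact Subtype.ext (hexp q (hQN q.2))⟩
      obtain ⟨k, hk⟩ := hQp.exists_card_eq
      rw [hk] at this
      clear hk hv1 hv2 hv heapp
      generalize h • u = w at this
      induction k generalizing w with
      | zero => simpa using this
      | succ k ih =>
        rw [pow_succ, mul_nsmul] at this
        exact ih w (hV _ this)
    refine hdisj.mono_right (sSup_le ?_)
    rintro _ ⟨⟨g, rfl⟩, hne⟩ v hv
    obtain ⟨u, hu, rfl⟩ := (AddSubgroup.mem_smul_pointwise_iff_exists _ _ _).1 hv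
    rw [AddMonoidHom.mem_ker]
    by_contra he
    apply hne
    show g • U = h • U
    set w := h⁻¹ • e (g • u) with hw
    have hw0 : w ≠ 0 := fun h0 => he (by rwa [hw, smul_eq_zero_iff_eq] at h0)
    have hN' : ∀ q ∈ Q, h⁻¹ * (g * q * g⁻¹) * h ∈ N := fun q hq =>
      hN.conj_mem' _ (hN.conj_mem _ (hQN hq) g) h
    have hwQ : w ∈ U := mem_fixSub.2 fun q hq => by
      have h1 : (h * q * h⁻¹) • e (g • u) = e (g • u) := by
        rw [heapp, Finset.smul_sum]
        refine Fintype.sum_equiv (Equiv.mulLeft (⟨q, hq⟩ : Q)) _ _ fun r => ?_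
        rw [← mul_smul]
        congr 1
        show h * q * h⁻¹ * (h * r * h⁻¹) = h * (q * r) * h⁻¹
        group
      rw [hw, ← mul_smul, show q * h⁻¹ = h⁻¹ * (h * q * h⁻¹) by group, mul_smul, h1]
    have hconj : ∀ q ∈ Q, h⁻¹ * (g * q * g⁻¹) * h ∈ Q := fun q hq => by
      refine hmax w hwQ hw0 _ (hN' q hq) ?_
      have h1 : (g * q * g⁻¹) • e (g • u) = e (g • u) := by
        rw [heapp, Finset.smul_sum]
        refine Finset.sum_congr rfl fun r _ => ?_
        rw [← mul_smul, (hcomm _ (hN.conj_mem _ (hQN hq) g) _ (hN.conj_mem _ (hQN r.2) h)).eq,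
          mul_smul, ← mul_smul (g * q * g⁻¹), inv_mul_cancel_right, mul_smul g,
          mem_fixSub.1 hu q hq]
      rw [hw, ← mul_smul, mul_inv_cancel_right, mul_smul, h1]
    have hmap : Q.map (MulAut.conj (h⁻¹ * g)).toMonoidHom = Q := by
      refine Subgroup.eq_of_le_of_card_ge ?_ ?_
      · rintro _ ⟨q, hq, rfl⟩
        have : h⁻¹ * (g * q * g⁻¹) * h = (h⁻¹ * g) * q * (h⁻¹ * g)⁻¹ := by group
        show MulAut.conj (h⁻¹ * g) q ∈ Q
        rw [MulAut.conj_apply, ← this]
        exact hconj q hq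
      · rw [← Nat.card_congr ((Q.equivMapOfInjective (MulAut.conj (h⁻¹ * g)).toMonoidHom
          (MulAut.conj (h⁻¹ * g)).injective)).toEquiv]
    have hUc : ∀ v, (h⁻¹ * g) • v ∈ U ↔ v ∈ U := by
      intro v
      rw [hU, mem_fixSub, mem_fixSub]
      constructor
      · intro hv q hq
        have := hv _ (hmap ▸ Subgroup.mem_map_of_mem _ hq : (MulAut.conj (h⁻¹ * g)) q ∈ Q)
        rwa [MulAut.conj_apply, ← mul_smul, inv_mul_cancel_right, mul_smul,
          smul_left_cancel_iff] at this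
      · intro hv q hq
        rw [← hmap] at hq
        obtain ⟨r, hr, rfl⟩ := hq
        show (MulAut.conj (h⁻¹ * g)) r • (h⁻¹ * g) • v = _
        rw [MulAut.conj_apply, ← mul_smul, inv_mul_cancel_right, mul_smul, hv r hr]
    ext v
    rw [AddSubgroup.mem_pointwise_smul_iff_inv_smul_mem,
      AddSubgroup.mem_pointwise_smul_iff_inv_smul_mem, ← hUc, ← mul_smul, mul_assoc,
      mul_inv_cancel, mul_one]
  · by_contra hnt
    rw [Set.not_nontrivial_iff] at hnt
    have hUtop : U = ⊤ := by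
      refine (hirr U fun h u hu => ?_).resolve_left hUne
      rw [← hnt ⟨h, rfl⟩ ⟨1, one_smul H U⟩]
      exact AddSubgroup.smul_mem_pointwise_smul u h U hu
    have hQ : Q = ⊥ := (Subgroup.eq_bot_iff_forall Q).2 fun q hq =>
      eq_of_smul_eq_smul fun v : V => by
        rw [one_smul]; exact mem_fixSub.1 (show v ∈ U from hUtop.symm ▸ AddSubgroup.mem_top v) q hq
    have hNne : ∀ n ∈ N, n ≠ 1 → ∀ w : V, n • w = w → w = 0 := fun n hn hn1 w hw => by
      by_contra hw0
      exact hn1 (Subgroup.mem_bot.1 (hQ ▸ hmax w (hUtop ▸ AddSubgroup.mem_top w) hw0 n hn hw))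
    obtain ⟨a, ha, ha1⟩ : ∃ a ∈ N, a ≠ 1 := by
      by_contra! hc
      rw [(Subgroup.eq_bot_iff_forall N).2 hc, Subgroup.card_bot] at hcard
      exact absurd hp.out.one_lt (by omega)
    obtain ⟨b, hb, hba⟩ : ∃ b ∈ N, b ∉ Subgroup.zpowers a := by
      by_contra! hc
      have := Subgroup.card_le_of_le (show N ≤ Subgroup.zpowers a from hc)
      rw [Nat.card_zpowers, orderOf_eq_prime (hexp a ha) ha1] at this
      omega
    obtain ⟨i, -, w, -, hw0, hw⟩ := exists_fix hV (hexp b hb) (hexp a ha) (hcomm b hb a ha)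
      (W := ⊤) (fun _ _ => trivial) (fun _ _ => trivial) top_ne_bot
      fun w _ => hNne a ha ha1 w
    refine hw0 (hNne _ (N.mul_mem hb (N.pow_mem ha i)) (fun he => hba ?_) w hw)
    rw [mul_eq_one_iff_eq_inv.1 he]
    exact inv_mem (Subgroup.pow_mem _ (Subgroup.mem_zpowers a) i)

end Cfsg.Agent.Avoid92
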