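import Cfsg.Agent.Lib.PGroup.Basic
import Mathlib.Algebra.Group.Action.Pointwise.Set.Basic
import Mathlib.GroupTheory.GroupAction.Basic

/-!
# Regular subsets for a permutation group of odd prime power order

A finite `p`-group, `p` odd, permuting a finite set has two subsets in different orbits, each of
whose set stabilisers acts trivially on the whole set.
-/

set_option autoImplicit false

namespace Cfsg.Agent.Avoid92

open Pointwise

variable {G Ω : Type*} [Group G] [MulAction G Ω] [Finite G] [Finite Ω] {p : ℕ} [Fact p.Prime]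

/-- A pair of subsets of `X`, in different orbits of `R`, each fixed only by elements acting
trivially on `X`. -/
def HasRegularPair (R : Subgroup G) (X : Set Ω) : Prop :=
  ∃ A B : Set Ω, A ⊆ X ∧ B ⊆ X ∧ (∀ g ∈ R, g • A = A → ∀ x ∈ X, g • x = x) ∧
    (∀ g ∈ R, g • B = B → ∀ x ∈ X, g • x = x) ∧ ∀ g ∈ R, g • A ≠ B

omit [Finite G] [Finite Ω] in
theorem HasRegularPair.union {R : Subgroup G} {Y Z : Set Ω} (hYZ : Disjoint Y Z)
    (hY : ∀ g ∈ R, g • Y = Y) (hZ : ∀ g ∈ R, g • Z = Z) (h₁ : HasRegularPair R Y)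
    (h₂ : HasRegularPair R Z) : HasRegularPair R (Y ∪ Z) := by
  obtain ⟨A, B, hA, hB, hfA, hfB, hne⟩ := h₁
  obtain ⟨A', B', hA', hB', hfA', hfB', hne'⟩ := h₂
  have split : ∀ {C C' : Set Ω}, C ⊆ Y → C' ⊆ Z → (C ∪ C') ∩ Y = C ∧ (C ∪ C') ∩ Z = C' := by
    intro C C' hC hC'
    constructor
    · rw [Set.union_inter_distrib_right, Set.inter_eq_left.2 hC,
        (hYZ.symm.mono_left hC').inter_eq, Set.union_empty]
    · rw [Set.union_inter_distrib_right, Set.inter_eq_left.2 hC',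
        (hYZ.mono_left hC).inter_eq, Set.empty_union]
  have key : ∀ {C C' D D' : Set Ω}, C ⊆ Y → C' ⊆ Z → D ⊆ Y → D' ⊆ Z → ∀ g ∈ R,
      g • (C ∪ C') = D ∪ D' → g • C = D ∧ g • C' = D' := by
    intro C C' D D' hC hC' hD hD' g hg he
    have h1 : g • C ⊆ Y := (Set.smul_set_mono hC).trans (hY g hg).subset
    have h2 : g • C' ⊆ Z := (Set.smul_set_mono hC').trans (hZ g hg).subset
    rw [Set.smul_set_union] at he
    exact ⟨by rw [← (split h1 h2).1, he, (split hD hD').1],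
      by rw [← (split h1 h2).2, he, (split hD hD').2]⟩
  refine ⟨A ∪ A', B ∪ B', Set.union_subset_union hA hA', Set.union_subset_union hB hB',
    fun g hg he => ?_, fun g hg he => ?_, fun g hg he => hne g hg (key hA hA' hB hB' g hg he).1⟩
  · obtain ⟨e1, e2⟩ := key hA hA' hA hA' g hg he
    rintro x (hx | hx)
    · exact hfA g hg e1 x hx
    · exact hfA' g hg e2 x hx
  · obtain ⟨e1, e2⟩ := key hB hB' hB hB' g hg he
    rintro x (hx | hx)
    · exact hfB g hg e1 x hx
    · exact hfB' g hg e2 x hx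

/-- The transitive step: `t` moves the block `X₀` of `M` cyclically. -/
theorem HasRegularPair.step (hp : p ≠ 2) {R M : Subgroup G} (hMR : M ≤ R) {t : G} (ht : t ∈ R)
    {X X₀ : Set Ω} (hne : X₀.Nonempty) (hcos : ∀ g ∈ R, ∃ i < p, (t ^ i)⁻¹ * g ∈ M)
    (hnorm : ∀ m ∈ M, ∀ g ∈ R, g⁻¹ * m * g ∈ M) (htp : ∀ i, 0 < i → i < p → t ^ i ∉ M)
    (hblk : ∀ g ∈ R, (g • X₀ ∩ X₀).Nonempty → g ∈ M) (hfix : ∀ g ∈ M, g • X₀ = X₀)
    (hX : X = ⋃ i ∈ Finset.range p, t ^ i • X₀) (h₀ : HasRegularPair M X₀) :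
    HasRegularPair R X := by
  obtain ⟨A, B, hA, hB, hfA, hfB, hne'⟩ := h₀
  have hp0 : 0 < p := (Fact.out : p.Prime).pos
  have hp3 : 2 < p := lt_of_le_of_ne (Fact.out : p.Prime).two_le (Ne.symm hp)
  let mk : Set Ω → Set Ω → Set Ω := fun C D => C ∪ ⋃ i ∈ Finset.Ioo 0 p, t ^ i • D
  have hdisj : ∀ {g h : G}, g ∈ R → h ∈ R → g⁻¹ * h ∉ M → Disjoint (g • X₀) (h • X₀) := by
    intro g h hg hh hgh
    rw [Set.disjoint_iff_inter_eq_empty, ← Set.not_nonempty_iff_eq_empty]
    rintro ⟨x, hx1, hx2⟩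
    refine hgh (hblk _ (R.mul_mem (R.inv_mem hg) hh) ⟨g⁻¹ • x, ?_, ?_⟩)
    · rw [mul_smul]; exact Set.smul_mem_smul_set hx2
    · exact Set.mem_smul_set_iff_inv_smul_mem.1 hx1
  have htR : ∀ i : ℕ, t ^ i ∈ R := fun i => R.pow_mem ht i
  have hclass : ∀ g ∈ R, ∀ i < p, g ∉ M → (t ^ i)⁻¹ * g ∈ M → 0 < i := by
    intro g _ i _ hgM hi
    by_contra h
    obtain rfl : i = 0 := by omega
    exact hgM (by simpa using hi)
  -- the part inside one block
  have part : ∀ {C D : Set Ω}, C ⊆ X₀ → D ⊆ X₀ → mk C D ∩ X₀ = C ∧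
      ∀ i, 0 < i → i < p → mk C D ∩ t ^ i • X₀ = t ^ i • D := by
    intro C D hC hD
    have hd : ∀ i j, i < j → j < p → Disjoint (t ^ i • X₀) (t ^ j • X₀) := fun i j hij hj =>
      hdisj (htR i) (htR j) (by
        rw [show (t ^ i)⁻¹ * t ^ j = t ^ (j - i) by
          rw [inv_mul_eq_iff_eq_mul, ← pow_add, Nat.add_sub_cancel' hij.le]]
        exact htp _ (by omega) (by omega))
    constructor
    · refine Set.Subset.antisymm ?_ fun x hx => ⟨Or.inl hx, hC hx⟩
      rintro x ⟨hx | hx, hx0⟩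
      · exact hx
      · simp only [Set.mem_iUnion, Finset.mem_Ioo] at hx
        obtain ⟨i, ⟨hi0, hip⟩, hxi⟩ := hx
        refine absurd (Set.smul_set_mono hD hxi) (Set.disjoint_left.1 (hd 0 i hi0 hip) ?_)
        rwa [pow_zero, one_smul]
    · intro i hi0 hip
      refine Set.Subset.antisymm ?_ fun x hx => ⟨Or.inr ?_, Set.smul_set_mono hD hx⟩
      · rintro x ⟨hx | hx, hxi⟩
        · refine absurd hxi (Set.disjoint_left.1 (hd 0 i hi0 hip) ?_)
          rw [pow_zero, one_smul]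
          exact hC hx
        · simp only [Set.mem_iUnion, Finset.mem_Ioo] at hx
          obtain ⟨j, ⟨-, hjp⟩, hxj⟩ := hx
          rcases lt_trichotomy i j with h | h | h
          · exact absurd (Set.smul_set_mono hD hxj) (Set.disjoint_left.1 (hd i j h hjp) hxi)
          · exact h ▸ hxj
          · exact absurd hxi (Set.disjoint_left.1 (hd j i h hip) (Set.smul_set_mono hD hxj))
      · simp only [Set.mem_iUnion, Finset.mem_Ioo]
        exact ⟨i, ⟨hi0, hip⟩, hx⟩
  have hsub : ∀ {C D : Set Ω}, C ⊆ X₀ → D ⊆ X₀ → mk C D ⊆ X := by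
    intro C D hC hD x hx
    rw [hX]
    simp only [Set.mem_iUnion, Finset.mem_range]
    rcases hx with hx | hx
    · exact ⟨0, hp0, by rw [pow_zero, one_smul]; exact hC hx⟩
    · simp only [Set.mem_iUnion, Finset.mem_Ioo] at hx
      obtain ⟨i, ⟨-, hi⟩, hxi⟩ := hx
      exact ⟨i, hi, Set.smul_set_mono hD hxi⟩
  -- an element moving the first block sends `C` to a translate of `D'`
  have move : ∀ {C D C' D' : Set Ω}, C ⊆ X₀ → D ⊆ X₀ → C' ⊆ X₀ → D' ⊆ X₀ → ∀ g ∈ R, g ∉ M →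
      g • mk C D = mk C' D' → ∃ m ∈ M, m • C = D' := by
    intro C D C' D' hC hD hC' hD' g hg hgM he
    obtain ⟨i, hi, him⟩ := hcos g hg
    have hi0 := hclass g hg i hi hgM him
    have e : g • X₀ = t ^ i • X₀ := by
      conv_rhs => rw [← hfix _ him]
      rw [← mul_smul, mul_inv_cancel_left]
    refine ⟨_, him, ?_⟩
    rw [mul_smul, ← (part hC hD).1, Set.smul_set_inter, he, e, (part hC' hD').2 i hi0 hi, inv_smul_smul]
  -- an element fixing the first block and the set acts trivially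
  have stay : ∀ {C D : Set Ω}, C ⊆ X₀ → D ⊆ X₀ →
      (∀ g ∈ M, g • C = C → ∀ x ∈ X₀, g • x = x) → (∀ g ∈ M, g • D = D → ∀ x ∈ X₀, g • x = x) →
      ∀ g ∈ M, g • mk C D = mk C D → ∀ x ∈ X, g • x = x := by
    intro C D hC hD hfC hfD g hg he x hx
    rw [hX] at hx
    simp only [Set.mem_iUnion, Finset.mem_range] at hx
    obtain ⟨i, hi, hxi⟩ := hx
    obtain ⟨y, hy, rfl⟩ := hxi
    rcases Nat.eq_zero_or_pos i with rfl | hi0
    · simp only [pow_zero, one_smul]
      refine hfC g hg ?_ y hy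
      rw [← (part hC hD).1, Set.smul_set_inter, he, hfix g hg]
    · have hm := hnorm g hg (t ^ i) (htR i)
      have hgi : g • t ^ i • X₀ = t ^ i • X₀ := by
        conv_rhs => rw [← hfix _ hm]
        simp only [← mul_smul]
        congr 1
        group
      have hD' : g • t ^ i • D = t ^ i • D := by
        rw [← (part hC hD).2 i hi0 hi, Set.smul_set_inter, he, hgi]
      have h1 := hfD _ hm (by rw [mul_smul, mul_smul, hD', inv_smul_smul]) y hy
      rw [mul_smul, mul_smul, inv_smul_eq_iff] at h1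
      exact h1
  refine ⟨mk A B, mk B A, hsub hA hB, hsub hB hA, fun g hg he => ?_, fun g hg he => ?_,
    fun g hg he => ?_⟩
  · by_cases hgM : g ∈ M
    · exact stay hA hB hfA hfB g hgM he
    · obtain ⟨m, hm, h⟩ := move hA hB hA hB g hg hgM he
      exact absurd h (hne' m hm)
  · by_cases hgM : g ∈ M
    · exact stay hB hA hfB hfA g hgM he
    · obtain ⟨m, hm, h⟩ := move hB hA hB hA g hg hgM he
      exact absurd (eq_inv_smul_iff.2 h) (fun e => hne' _ (M.inv_mem hm) e.symm)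
  · by_cases hgM : g ∈ M
    · refine hne' g hgM ?_
      rw [← (part hA hB).1, Set.smul_set_inter, he, hfix g hgM, (part hB hA).1]
    · obtain ⟨j, hj0, hjp, hj⟩ : ∃ j, 0 < j ∧ j < p ∧ g * t ^ j ∉ M := by
        by_contra h
        have h1 : g * t ^ 1 ∈ M := by
          by_contra h1; exact h ⟨1, one_pos, by omega, h1⟩
        have h2 : g * t ^ 2 ∈ M := by
          by_contra h2; exact h ⟨2, two_pos, by omega, h2⟩
        refine htp 1 one_pos (by omega) ?_
        rw [show t ^ 1 = (g * t ^ 1)⁻¹ * (g * t ^ 2) by group]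
        exact M.mul_mem (M.inv_mem h1) h2
      obtain ⟨l, hl, hlm⟩ := hcos _ (R.mul_mem hg (htR j))
      have hl0 := hclass _ (R.mul_mem hg (htR j)) l hl hj hlm
      have e : (g * t ^ j) • X₀ = t ^ l • X₀ := by
        conv_rhs => rw [← hfix _ hlm]
        rw [← mul_smul, mul_inv_cancel_left]
      have hBA : ((t ^ l)⁻¹ * (g * t ^ j)) • B = A := by
        rw [mul_smul, mul_smul, ← (part hA hB).2 j hj0 hjp, Set.smul_set_inter, he, ← mul_smul g, e,
          (part hB hA).2 l hl0 hl, inv_smul_smul]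
      exact hne' _ (M.inv_mem hlm) (inv_smul_eq_iff.2 hBA.symm)

theorem exists_regular_pair_aux (hp : p ≠ 2) : ∀ (n : ℕ) (R : Subgroup G) (X : Set Ω),
    X.ncard ≤ n → IsPGroup p R → (∀ g ∈ R, g • X = X) → X.Nonempty → HasRegularPair R X := by
  classical
  intro n
  induction n with
  | zero =>
    intro R X hn _ _ hne
    exact absurd ((Set.ncard_eq_zero).1 (Nat.le_zero.1 hn)) hne.ne_empty
  | succ n ih =>
    intro R X hn hR hinv hne
    obtain ⟨x, hx⟩ := hne
    by_cases hsing : X = {x}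
    · subst hsing
      refine ⟨∅, {x}, Set.empty_subset _, subset_rfl, fun g hg _ => ?_, fun g hg _ => ?_,
        fun g _ h => ?_⟩
      · intro y hy
        rw [Set.mem_singleton_iff] at hy
        subst hy
        have := hinv g hg
        rwa [Set.smul_set_singleton, Set.singleton_eq_singleton_iff] at this
      · intro y hy
        rw [Set.mem_singleton_iff] at hy
        subst hy
        have := hinv g hg
        rwa [Set.smul_set_singleton, Set.singleton_eq_singleton_iff] at this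
      · rw [Set.smul_set_empty] at h
        exact (Set.singleton_nonempty x).ne_empty h.symm
    set Y : Set Ω := {y | ∃ g ∈ R, g • x = y} with hY
    have hYX : Y ⊆ X := by
      rintro _ ⟨g, hg, rfl⟩
      rw [← hinv g hg]
      exact Set.smul_mem_smul_set hx
    have hYinv : ∀ g ∈ R, g • Y = Y := by
      intro g hg
      ext y
      rw [Set.mem_smul_set_iff_inv_smul_mem]
      refine ⟨fun ⟨h, hh, e⟩ => ⟨g * h, R.mul_mem hg hh, by rw [mul_smul, e, smul_inv_smul]⟩,
        fun ⟨h, hh, e⟩ => ⟨g⁻¹ * h, R.mul_mem (R.inv_mem hg) hh, by rw [mul_smul, e]⟩⟩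
    have hxY : x ∈ Y := ⟨1, R.one_mem, one_smul _ _⟩
    by_cases hYX' : Y = X
    swap
    · have hss := Set.ssubset_iff_subset_ne.2 ⟨hYX, hYX'⟩
      have hlt := Set.ncard_lt_ncard hss
      have hlt' : (X \ Y).ncard < X.ncard :=
        Set.ncard_lt_ncard (Set.ssubset_iff_subset_ne.2 ⟨Set.sdiff_subset,
          fun e => (e.symm ▸ hx : x ∈ X \ Y).2 hxY⟩)
      have hinv' : ∀ g ∈ R, g • (X \ Y) = X \ Y := fun g hg => by
        rw [Set.smul_set_sdiff, hinv g hg, hYinv g hg]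
      have h := HasRegularPair.union Set.disjoint_sdiff_right hYinv hinv'
        (ih R Y (by omega) hR hYinv ⟨x, hxY⟩)
        (ih R (X \ Y) (by omega) hR hinv' (Set.sdiff_nonempty.2 fun h => hYX' (hYX.antisymm h)))
      rwa [Set.union_sdiff_cancel hYX] at h
    -- transitive
    set St : Subgroup ↥R := MulAction.stabilizer ↥R x with hSt
    have hStne : St ≠ ⊤ := by
      intro h
      apply hsing
      rw [← hYX']
      ext y
      refine ⟨fun ⟨g, hg, e⟩ => ?_, fun e => e ▸ hxY⟩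
      have : (⟨g, hg⟩ : ↥R) ∈ St := h ▸ Subgroup.mem_top _
      rw [Set.mem_singleton_iff, ← e]
      exact this
    obtain ⟨M', hStM, hM'⟩ : ∃ M' : Subgroup ↥R, St ≤ M' ∧ IsCoatom M' := by
      obtain ⟨M', hM', h⟩ := (eq_top_or_exists_le_coatom St).resolve_left hStne
      exact ⟨M', h, hM'⟩
    haveI := PGroup.normal_of_isCoatom hR hM'
    obtain ⟨t, htM⟩ : ∃ t : ↥R, t ∉ M' := by
      by_contra! h
      exact hM'.1 (top_le_iff.1 fun a _ => h a)
    have hidx := PGroup.index_eq_prime_of_isCoatom hR hM'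
    haveI : Fintype (↥R ⧸ M') := Fintype.ofFinite _
    have hord : orderOf (QuotientGroup.mk' M' t) = p :=
      ((Nat.dvd_prime Fact.out).1 (hidx ▸ orderOf_dvd_natCard _)).resolve_left fun h =>
        htM ((QuotientGroup.eq_one_iff t).1 (orderOf_eq_one_iff.1 h))
    have htp : ∀ i, 0 < i → i < p → t ^ i ∉ M' := fun i hi hip h => by
      have h1 : (QuotientGroup.mk' M' t) ^ i = 1 := by
        rw [← map_pow]; exact (QuotientGroup.eq_one_iff _).2 h
      have := Nat.le_of_dvd hi (orderOf_dvd_of_pow_eq_one h1)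
      omega
    have hcos : ∀ g : ↥R, ∃ i < p, (t ^ i)⁻¹ * g ∈ M' := by
      intro g
      have hz : QuotientGroup.mk' M' g ∈ Subgroup.zpowers (QuotientGroup.mk' M' t) := by
        haveI : Fact (Nat.card (↥R ⧸ M')).Prime := ⟨by
          rw [show Nat.card (↥R ⧸ M') = p from hidx]; exact Fact.out⟩
        exact mem_zpowers_of_prime_card rfl (fun h => htM ((QuotientGroup.eq_one_iff t).1 h))
      rw [← mem_powers_iff_mem_zpowers, mem_powers_iff_mem_range_orderOf, Finset.mem_image] at hz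
      obtain ⟨i, hi, hig⟩ := hz
      refine ⟨i, by rwa [Finset.mem_range, hord] at hi, (QuotientGroup.eq_one_iff _).1 ?_⟩
      show QuotientGroup.mk' M' ((t ^ i)⁻¹ * g) = 1
      rw [map_mul, map_inv, map_pow, hig, inv_mul_cancel]
    set M : Subgroup G := M'.map R.subtype with hMdef
    have hmemM : ∀ {g : G}, g ∈ M → ∃ h : g ∈ R, (⟨g, h⟩ : ↥R) ∈ M' := by
      rintro _ ⟨a, ha, rfl⟩
      exact ⟨a.2, ha⟩
    have hmem' : ∀ {a : ↥R}, (a : G) ∈ M ↔ a ∈ M' := fun {a} =>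
      ⟨fun h => (hmemM h).2, fun h => ⟨a, h, rfl⟩⟩
    set X₀ : Set Ω := {y | ∃ g ∈ M, g • x = y} with hX₀
    have hblk : ∀ g ∈ R, (g • X₀ ∩ X₀).Nonempty → g ∈ M := by
      rintro g hg ⟨y, ⟨_, ⟨m, hm, rfl⟩, rfl⟩, m', hm', e⟩
      obtain ⟨hmR, hmM⟩ := hmemM hm
      obtain ⟨hmR', hmM'⟩ := hmemM hm'
      have hst : (⟨m', hmR'⟩⁻¹ * ⟨g, hg⟩ * ⟨m, hmR⟩ : ↥R) ∈ St := by
        show (m'⁻¹ * g * m) • x = x
        rw [mul_smul, mul_smul, inv_smul_eq_iff]
        exact e.symm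
      have h4 := M'.mul_mem (M'.mul_mem hmM' (hStM hst)) (M'.inv_mem hmM)
      rw [show (⟨m', hmR'⟩ : ↥R) * (⟨m', hmR'⟩⁻¹ * ⟨g, hg⟩ * ⟨m, hmR⟩) * ⟨m, hmR⟩⁻¹ = ⟨g, hg⟩ by
        group] at h4
      exact (hmem' (a := ⟨g, hg⟩)).2 h4
    have hfix : ∀ g ∈ M, g • X₀ = X₀ := by
      intro g hg
      ext y
      rw [Set.mem_smul_set_iff_inv_smul_mem]
      refine ⟨fun ⟨h, hh, e⟩ => ⟨g * h, M.mul_mem hg hh, by rw [mul_smul, e, smul_inv_smul]⟩,
        fun ⟨h, hh, e⟩ => ⟨g⁻¹ * h, M.mul_mem (M.inv_mem hg) hh, by rw [mul_smul, e]⟩⟩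
    have hMR : M ≤ R := Subgroup.map_subtype_le _
    have hX₀X : X₀ ⊆ X := by
      rintro _ ⟨g, hg, rfl⟩
      rw [← hYX']
      exact ⟨g, hMR hg, rfl⟩
    have hlt : X₀.ncard < X.ncard := by
      refine Set.ncard_lt_ncard (Set.ssubset_iff_subset_ne.2 ⟨hX₀X, fun e => htM (hmem'.1 ?_)⟩)
      refine hblk _ t.2 ⟨(t : G) • x, Set.smul_mem_smul_set (⟨1, M.one_mem, one_smul _ _⟩ : x ∈ X₀), ?_⟩
      rw [e, ← hYX']
      exact ⟨t, t.2, rfl⟩
    refine HasRegularPair.step (X₀ := X₀) hp hMR t.2 ⟨x, 1, M.one_mem, one_smul _ _⟩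
      (fun g hg => (hcos ⟨g, hg⟩).imp fun i hi => ⟨hi.1, ?_⟩)
      (fun m hm g hg => ?_) (fun i hi hip h => htp i hi hip (hmem'.1 (by simpa using h))) hblk hfix
      ?_ (ih M X₀ (by omega) (hR.to_le hMR) hfix ⟨x, 1, M.one_mem, one_smul _ _⟩)
    · exact ⟨_, hi.2, by simp⟩
    · obtain ⟨hmR, hmM⟩ := hmemM hm
      exact ⟨_, Subgroup.Normal.conj_mem' inferInstance _ hmM ⟨g, hg⟩, by simp [mul_assoc]⟩
    · ext y
      simp only [Set.mem_iUnion, Finset.mem_range]
      constructor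
      · rw [← hYX']
        rintro ⟨g, hg, rfl⟩
        obtain ⟨i, hi, him⟩ := hcos ⟨g, hg⟩
        refine ⟨i, hi, ?_⟩
        rw [Set.mem_smul_set_iff_inv_smul_mem, ← mul_smul]
        exact ⟨_, ⟨_, him, by simp⟩, rfl⟩
      · rintro ⟨i, -, z, hz, rfl⟩
        rw [← hinv _ (R.pow_mem t.2 i)]
        exact Set.smul_mem_smul_set (hX₀X hz)

/-- A finite `p`-group (`p` odd) permuting a finite set has a subset fixed only by the elements
acting trivially. -/
theorem exists_regular_set (hp : p ≠ 2) (R : Subgroup G) (hR : IsPGroup p R) :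
    ∃ A : Set Ω, ∀ g ∈ R, g • A = A → ∀ x : Ω, g • x = x := by
  rcases isEmpty_or_nonempty Ω with h | h
  · exact ⟨∅, fun _ _ _ x => isEmptyElim x⟩
  · obtain ⟨A, -, -, -, hA, -⟩ := exists_regular_pair_aux hp (Set.univ : Set Ω).ncard R Set.univ le_rfl hR
      (fun g _ => Set.smul_set_univ) Set.univ_nonempty
    exact ⟨A, fun g hg he x => hA g hg he x trivial⟩

end Cfsg.Agent.Avoid92
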