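import Cfsg.Agent.Avoid92.Structure
import Cfsg.Agent.Avoid92.Sets
import Mathlib.Data.Set.Card
import Mathlib.Algebra.Group.Subgroup.Order
import Mathlib.Order.ModularLattice

/-!
# A vector moved by all conjugates of an element of order `p`

For a normal `p`-subgroup `P`, `p` odd, of an irreducible group, some vector is moved by every
conjugate of a given element of order `p` of `P` which acts nontrivially.
-/

set_option autoImplicit false

namespace Cfsg.Agent.Avoid92

open Pointwise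

variable {H V : Type*} [Group H] [AddCommGroup V] [DistribMulAction H V]

theorem smul_inf_eq {F : Set (AddSubgroup V)} (hF : Blocks H F) {W U : AddSubgroup V}
    (hW : W ∈ F) {X : AddSubgroup V} (hX : X ∈ F) (hU : U ≠ ⊥) (h1 : U ≤ W) (h2 : U ≤ X) :
    X = W := by
  by_contra hne
  exact hU (eq_bot_iff.2 ((le_inf h1 h2).trans
    (hF.indep.pairwiseDisjoint hW hX (Ne.symm hne)).le_bot))

theorem smul_ne_bot (h : H) {U : AddSubgroup V} (hU : U ≠ ⊥) : h • U ≠ ⊥ := fun he => by
  refine hU (eq_bot_iff.2 fun u hu => ?_)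
  have := AddSubgroup.smul_mem_pointwise_smul u h U hu
  rw [he, AddSubgroup.mem_bot, smul_eq_zero_iff_eq] at this
  rw [this]; exact zero_mem _

/-- The sum of a family permuted by an irreducible group is everything. -/
theorem sSup_eq_top (hirr : Irr H V) {F : Set (AddSubgroup V)}
    (hne : ∀ U ∈ F, U ≠ ⊥) (hsmul : ∀ h : H, ∀ U ∈ F, h • U ∈ F) (h0 : F.Nonempty) :
    sSup F = ⊤ := by
  obtain ⟨U, hU⟩ := h0
  refine (hirr _ fun h u hu => ?_).resolve_left fun he => hne U hU (eq_bot_iff.2 (he ▸ le_sSup hU))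
  have hle : sSup F ≤ h⁻¹ • sSup F := sSup_le fun X hX => by
    rw [← AddSubgroup.pointwise_smul_le_iff]
    exact le_sSup (hsmul h X hX)
  exact AddSubgroup.mem_inv_pointwise_smul_iff.1 (hle hu)

theorem exists_smul_eq_block (hirr : Irr H V) {F : Set (AddSubgroup V)} (hF : Blocks H F)
    {W U : AddSubgroup V} (hW : W ∈ F) (hU : U ∈ F) : ∃ h : H, h • W = U := by
  by_contra hcon
  push Not at hcon
  have hS : sSup (Set.range fun h : H => h • W) = ⊤ :=
    sSup_eq_top hirr (by rintro _ ⟨h, rfl⟩; exact smul_ne_bot h (hF.ne_bot W hW))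
      (by rintro h _ ⟨g, rfl⟩; exact ⟨h * g, mul_smul h g W⟩) ⟨_, ⟨1, rfl⟩⟩
  have h1 := (hF.indep hU).mono_right (sSup_le_sSup (show Set.range (fun h : H => h • W) ⊆ F \ {U}
    from by rintro _ ⟨h, rfl⟩; exact ⟨hF.smul_mem h W hW, hcon h⟩))
  rw [hS, disjoint_top] at h1
  exact hF.ne_bot U hU h1

/-- The stabilizer of a block acts irreducibly on it. -/
theorem eq_of_le_block (hirr : Irr H V) {F : Set (AddSubgroup V)} (hF : Blocks H F)
    {W U : AddSubgroup V} (hW : W ∈ F) (hUW : U ≤ W) (hU : U ≠ ⊥)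
    (hinv : ∀ h : H, h • W = W → h • U ≤ U) : U = W := by
  have hS : sSup (Set.range fun h : H => h • U) = ⊤ :=
    sSup_eq_top hirr (by rintro _ ⟨h, rfl⟩; exact smul_ne_bot h hU)
      (by rintro h _ ⟨g, rfl⟩; exact ⟨h * g, mul_smul h g U⟩) ⟨_, ⟨1, rfl⟩⟩
  refine le_antisymm hUW ?_
  have h1 : sSup (Set.range fun h : H => h • U) ≤ U ⊔ sSup (F \ {W}) := by
    refine sSup_le ?_
    rintro _ ⟨h, rfl⟩
    by_cases hh : h • W = W
    · exact le_sup_of_le_left (hinv h hh)
    · exact le_sup_of_le_right ((AddSubgroup.pointwise_smul_le_pointwise_smul_iff.2 hUW).trans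
        (le_sSup ⟨hF.smul_mem h W hW, hh⟩))
  rw [hS] at h1
  calc W = (U ⊔ sSup (F \ {W})) ⊓ W := by rw [top_le_iff.1 h1, top_inf_eq]
    _ = U ⊔ sSup (F \ {W}) ⊓ W := sup_inf_assoc_of_le _ hUW
    _ ≤ U := by rw [(hF.indep hW).symm.eq_bot, sup_bot_eq]

/-- A block which splits gives a larger family of blocks. -/
theorem exists_bigger [Finite V] (hirr : Irr H V) {F : Set (AddSubgroup V)} (hF : Blocks H F)
    {W : AddSubgroup V} (hW : W ∈ F) {E : Set (AddSubgroup V)} (hEW : ∀ U ∈ E, U ≤ W)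
    (hEne : ∀ U ∈ E, U ≠ ⊥) (hEsmul : ∀ h : H, h • W = W → ∀ U ∈ E, h • U ∈ E)
    (hEi : sSupIndep E) (hEnt : E.Nontrivial) :
    ∃ F' : Set (AddSubgroup V), Blocks H F' ∧ F.ncard < F'.ncard := by
  classical
  set F' : Set (AddSubgroup V) := {X | ∃ h : H, ∃ U ∈ E, h • U = X} with hF'
  refine ⟨F', ⟨?_, ?_, ?_⟩, ?_⟩
  · rintro _ ⟨h, U, hU, rfl⟩
    exact smul_ne_bot h (hEne U hU)
  · rintro g _ ⟨h, U, hU, rfl⟩
    exact ⟨g * h, U, hU, mul_smul g h U⟩
  · rintro _ ⟨h, U, hU, rfl⟩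
    have hdU : Disjoint (h • U) (h • sSup (E \ {U})) := by
      rw [disjoint_iff_inf_le]
      intro v hv
      obtain ⟨hv1, hv2⟩ := AddSubgroup.mem_inf.1 hv
      rw [AddSubgroup.mem_pointwise_smul_iff_inv_smul_mem] at hv1 hv2
      have := (hEi hU).le_bot (AddSubgroup.mem_inf.2 ⟨hv1, hv2⟩)
      rw [AddSubgroup.mem_bot, smul_eq_zero_iff_eq] at this
      rw [this]; exact zero_mem _
    have hleW : h • U ⊔ h • sSup (E \ {U}) ≤ h • W :=
      sup_le (AddSubgroup.pointwise_smul_le_pointwise_smul_iff.2 (hEW U hU))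
        (AddSubgroup.pointwise_smul_le_pointwise_smul_iff.2 (sSup_le fun X hX => hEW X hX.1))
    refine (hdU.disjoint_sup_right_of_disjoint_sup_left
      ((hF.indep (hF.smul_mem h W hW)).mono_left hleW)).mono_right ?_
    refine sSup_le ?_
    rintro _ ⟨⟨g, U', hU', rfl⟩, hne⟩
    by_cases hg : g • W = h • W
    · refine le_sup_of_le_left ?_
      have hs : (h⁻¹ * g) • W = W := by rw [mul_smul, hg, inv_smul_smul]
      rw [show g • U' = h • ((h⁻¹ * g) • U') by rw [mul_smul, smul_inv_smul]]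
      refine AddSubgroup.pointwise_smul_le_pointwise_smul_iff.2 (le_sSup ⟨hEsmul _ hs U' hU', ?_⟩)
      intro he
      apply hne
      show g • U' = h • U
      rw [← (Set.mem_singleton_iff.1 he), mul_smul, smul_inv_smul]
    · exact le_sup_of_le_right ((AddSubgroup.pointwise_smul_le_pointwise_smul_iff.2 (hEW U' hU')).trans
        (le_sSup ⟨hF.smul_mem g W hW, hg⟩))
  · obtain ⟨U1, hU1, U2, hU2, h12⟩ := hEnt
    let π : AddSubgroup V → AddSubgroup V := fun X =>
      if hx : ∃ B ∈ F, X ≤ B then hx.choose else ⊥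
    have hsub : F ⊆ π '' (F' \ {U2}) := by
      intro B hB
      obtain ⟨h, rfl⟩ := exists_smul_eq_block hirr hF hW hB
      have key : ∀ X, X ≠ ⊥ → X ≤ h • W → π X = h • W := by
        intro X hX0 hXle
        have hx : ∃ B ∈ F, X ≤ B := ⟨_, hB, hXle⟩
        show (if hx : ∃ B ∈ F, X ≤ B then hx.choose else ⊥) = _
        rw [dif_pos hx]
        exact smul_inf_eq hF hB hx.choose_spec.1 hX0 hXle hx.choose_spec.2
      by_cases hh : h • W = W
      · exact ⟨U1, ⟨⟨1, U1, hU1, one_smul H U1⟩, h12⟩, key U1 (hEne U1 hU1) (hh.symm ▸ hEW U1 hU1)⟩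
      · refine ⟨h • U1, ⟨⟨h, U1, hU1, rfl⟩, fun he => hh ?_⟩, key _ (smul_ne_bot h (hEne U1 hU1))
          (AddSubgroup.pointwise_smul_le_pointwise_smul_iff.2 (hEW U1 hU1))⟩
        rw [Set.mem_singleton_iff] at he
        exact smul_inf_eq hF hW hB (hEne U2 hU2) (hEW U2 hU2)
          (he ▸ AddSubgroup.pointwise_smul_le_pointwise_smul_iff.2 (hEW U1 hU1))
    have h1 := (Set.ncard_le_ncard hsub (Set.toFinite _)).trans
      (Set.ncard_image_le (Set.toFinite _))
    exact lt_of_le_of_lt h1 (Set.ncard_sdiff_singleton_lt_of_mem ⟨1, U2, hU2, one_smul H U2⟩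
      (Set.toFinite _))

variable {p : ℕ} [hp : Fact p.Prime] [Finite H] [Finite V]

/-- In a block which does not split, some vector is fixed only by trivially acting elements. -/
theorem exists_block_vector (hp2 : p ≠ 2) (hV : ∀ v : V, p • v = 0 → v = 0) (hirr : Irr H V)
    {F : Set (AddSubgroup V)} (hF : Blocks H F)
    (hmax : ∀ F' : Set (AddSubgroup V), Blocks H F' → F'.ncard ≤ F.ncard)
    {P : Subgroup H} [hPn : P.Normal] (hP : IsPGroup p P) {W : AddSubgroup V} (hW : W ∈ F) :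
    ∃ v ∈ W, v ≠ 0 ∧ ∀ g ∈ P, g • W = W → g ^ p = 1 → g • v = v → ∀ w ∈ W, g • w = w := by
  classical
  let S : Subgroup H := MulAction.stabilizer H W
  have hmem : ∀ (s : S) (w : W), (s : H) • (w : V) ∈ W := fun s w => by
    have := AddSubgroup.smul_mem_pointwise_smul (w : V) (s : H) W w.2
    rwa [show (s : H) • W = W from s.2] at this
  letI : MulAction S W :=
    { smul := fun s w => ⟨(s : H) • (w : V), hmem s w⟩
      one_smul := fun w => Subtype.ext (one_smul H (w : V))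
      mul_smul := fun s t w => Subtype.ext (mul_smul (s : H) (t : H) (w : V)) }
  let ρ := MulAction.toPermHom S W
  let G := ρ.range
  have hact : ∀ (g : G) (w : W) (s : S), ρ s = g → g • w = ⟨(s : H) • (w : V), hmem s w⟩ :=
    fun g w s hs => by
      show (g : Equiv.Perm W) w = _
      rw [← hs]; rfl
  letI : DistribMulAction G W :=
    { smul_zero := fun g => by
        obtain ⟨s, hs⟩ := g.2
        rw [hact g 0 s hs]
        exact Subtype.ext (smul_zero (s : H))
      smul_add := fun g a b => by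
        obtain ⟨s, hs⟩ := g.2
        rw [hact g _ s hs, hact g a s hs, hact g b s hs]
        exact Subtype.ext (smul_add (s : H) (a : V) (b : V)) }
  have : FaithfulSMul G W := ⟨fun {a b} h => Subtype.ext (Equiv.ext h)⟩
  have : Nontrivial W := (AddSubgroup.nontrivial_iff_ne_bot W).2 (hF.ne_bot W hW)
  have hmap : ∀ (s : S) (U : AddSubgroup W) (U' : AddSubgroup W),
      (⟨ρ s, s, rfl⟩ : G) • U = U' → (s : H) • U.map W.subtype = U'.map W.subtype := by
    rintro s U _ rfl
    ext v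
    constructor
    · intro hv
      obtain ⟨_, ⟨u, hu, rfl⟩, rfl⟩ := (AddSubgroup.mem_smul_pointwise_iff_exists _ _ _).1 hv
      refine ⟨(⟨ρ s, s, rfl⟩ : G) • u, AddSubgroup.smul_mem_pointwise_smul u _ U hu, ?_⟩
      rw [hact _ u s rfl]; rfl
    · rintro ⟨_, hw, rfl⟩
      obtain ⟨u, hu, rfl⟩ := (AddSubgroup.mem_smul_pointwise_iff_exists _ _ _).1 hw
      rw [hact _ u s rfl]
      exact AddSubgroup.smul_mem_pointwise_smul _ _ _ ⟨u, hu, rfl⟩
  have hle : ∀ U : AddSubgroup W, U.map W.subtype ≤ W := by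
    rintro U _ ⟨u, -, rfl⟩
    exact u.2
  have hinj : Function.Injective (fun U : AddSubgroup W => U.map W.subtype) :=
    AddSubgroup.map_injective W.subtype_injective
  have hGirr : Irr G W := by
    intro U hU
    by_cases h0 : U = ⊥
    · exact Or.inl h0
    refine Or.inr (hinj ?_)
    show U.map W.subtype = (⊤ : AddSubgroup W).map W.subtype
    rw [← AddMonoidHom.range_eq_map, AddSubgroup.range_subtype]
    refine eq_of_le_block hirr hF hW (hle U) (fun he => h0 (hinj (he.trans ?_))) fun h hh => ?_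
    · exact (AddSubgroup.map_bot _).symm
    · intro v hv
      obtain ⟨_, ⟨u, hu, rfl⟩, rfl⟩ := (AddSubgroup.mem_smul_pointwise_iff_exists _ _ _).1 hv
      refine ⟨(⟨ρ ⟨h, hh⟩, _, rfl⟩ : G) • u, hU _ u hu, ?_⟩
      rw [hact _ u ⟨h, hh⟩ rfl]; rfl
  let R : Subgroup G := ((P.subgroupOf S).map ρ).subgroupOf G
  have hRn : R.Normal := ⟨fun x hx g => by
    obtain ⟨u, hu, hxu⟩ := Subgroup.mem_subgroupOf.1 hx
    obtain ⟨s, hs⟩ := g.2
    refine Subgroup.mem_subgroupOf.2 ⟨s * u * s⁻¹, ?_, ?_⟩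
    · exact Subgroup.mem_subgroupOf.2 (hPn.conj_mem _ (Subgroup.mem_subgroupOf.1 hu) s)
    · simp [hs, hxu]⟩
  have hR : IsPGroup p R := by
    intro x
    obtain ⟨u, hu, hxu⟩ := Subgroup.mem_subgroupOf.1 x.2
    obtain ⟨k, hk⟩ := hP ⟨u, Subgroup.mem_subgroupOf.1 hu⟩
    refine ⟨k, Subtype.ext (Subtype.ext ?_)⟩
    show ((x : G) : Equiv.Perm W) ^ p ^ k = 1
    rw [← hxu, ← map_pow, show u ^ p ^ k = 1 from Subtype.ext (congrArg Subtype.val hk :), map_one]
  have hVW : ∀ w : W, p • w = 0 → w = 0 := fun w hw =>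
    Subtype.ext (hV w (congrArg Subtype.val hw))
  rcases exists_avoid_or_blocks hp2 hVW hGirr hR with ⟨v, hv0, hv⟩ | ⟨E, hE, hEnt⟩
  · refine ⟨v, v.2, fun h => hv0 (Subtype.ext h), fun g hg hgW hgp hgv w hw => ?_⟩
    let x : G := ⟨ρ ⟨g, hgW⟩, _, rfl⟩
    have hx : x = 1 := hv x (Subgroup.mem_subgroupOf.2 ⟨⟨g, hgW⟩, Subgroup.mem_subgroupOf.2 hg, rfl⟩)
      (Subtype.ext (by
        show ρ ⟨g, hgW⟩ ^ p = 1
        rw [← map_pow, show (⟨g, hgW⟩ : S) ^ p = 1 from Subtype.ext hgp, map_one]))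
      (by rw [hact x v ⟨g, hgW⟩ rfl]; exact Subtype.ext hgv)
    have := hact x ⟨w, hw⟩ ⟨g, hgW⟩ rfl
    rw [hx, one_smul] at this
    exact (congrArg Subtype.val this).symm
  · exfalso
    obtain ⟨F', hF', hlt⟩ := exists_bigger hirr hF hW
      (E := (fun U : AddSubgroup W => U.map W.subtype) '' E)
      (by rintro _ ⟨U, -, rfl⟩; exact hle U)
      (by
        rintro _ ⟨U, hU, rfl⟩ he
        exact hE.ne_bot U hU (hinj (he.trans (AddSubgroup.map_bot _).symm)))
      (by
        rintro h hh _ ⟨U, hU, rfl⟩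
        exact ⟨_, hE.smul_mem _ U hU, (hmap ⟨h, hh⟩ U _ rfl).symm⟩)
      (by
        rintro _ ⟨U, hU, rfl⟩
        refine Disjoint.mono_right (c := (sSup (E \ {U})).map W.subtype) ?_ ?_
        · refine sSup_le ?_
          rintro _ ⟨⟨X, hX, rfl⟩, hne⟩
          exact AddSubgroup.map_mono (le_sSup ⟨hX, fun e => hne (by rw [Set.mem_singleton_iff.1 e]; rfl)⟩)
        · rw [disjoint_iff, ← AddSubgroup.map_inf _ _ _ W.subtype_injective, (hE.indep hU).eq_bot,
            AddSubgroup.map_bot])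
      (hEnt.image hinj)
    exact absurd (hmax F' hF') (not_le.2 hlt)

/-- Some vector is moved by all conjugates of an element of order `p` of a normal `p`-subgroup
which acts nontrivially. -/
theorem exists_moved_by_conjugates (hp2 : p ≠ 2) (hV : ∀ v : V, p • v = 0 → v = 0) [Nontrivial V]
    (hirr : Irr H V) {P : Subgroup H} [hPn : P.Normal] (hP : IsPGroup p P) {a : H} (ha : a ∈ P)
    (hap : a ^ p = 1) (hmove : ∃ v : V, a • v ≠ v) :
    ∃ v : V, ∀ h : H, (h⁻¹ * a * h) • v ≠ v := by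
  classical
  have h0 : Blocks H ({⊤} : Set (AddSubgroup V)) := by
    refine ⟨?_, ?_, sSupIndep_singleton ⊤⟩
    · rintro U rfl; exact top_ne_bot
    · rintro h U rfl
      rw [Set.mem_singleton_iff, eq_top_iff]
      intro v _
      rw [AddSubgroup.mem_pointwise_smul_iff_inv_smul_mem]
      exact AddSubgroup.mem_top _
  obtain ⟨F, hF, hmax'⟩ := Set.exists_max_image
    {F : Set (AddSubgroup V) | Blocks H F} (fun F => F.ncard) (Set.toFinite _) ⟨_, h0⟩
  have hmax : ∀ F' : Set (AddSubgroup V), Blocks H F' → F'.ncard ≤ F.ncard := hmax'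
  have hFne : F.Nonempty := by
    by_contra he
    rw [Set.not_nonempty_iff_eq_empty] at he
    have := hmax _ h0
    rw [he, Set.ncard_empty, Set.ncard_singleton] at this
    omega
  have htop : sSup F = ⊤ := sSup_eq_top hirr hF.ne_bot hF.smul_mem hFne
  choose v hvW hv0 hv using fun W : F => exists_block_vector hp2 hV hirr hF hmax hP W.2
  letI : MulAction H F :=
    { smul := fun h W => ⟨h • (W : AddSubgroup V), hF.smul_mem h W W.2⟩
      one_smul := fun W => Subtype.ext (one_smul H (W : AddSubgroup V))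
      mul_smul := fun g h W => Subtype.ext (mul_smul g h (W : AddSubgroup V)) }
  have : Fintype F := Fintype.ofFinite F
  -- the set of blocks carrying the vector
  obtain ⟨Δ, hΔ⟩ := exists_regular_set (Ω := F) hp2 P hP
  let Δ' : Set F := if ∀ W : F, a • W = W then Set.univ else Δ
  refine ⟨∑ W ∈ Δ'.toFinset, v W, fun h hfix => ?_⟩
  set g := h⁻¹ * a * h with hg
  have hgP : g ∈ P := hPn.conj_mem' a ha h
  have hgp : g ^ p = 1 := by
    rw [hg, show h⁻¹ * a * h = h⁻¹ * a * h⁻¹⁻¹ by group, conj_pow, hap]; group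
  have hothers : ∀ (W : F) (s : Finset F), W ∉ s → ∀ u : F → V, (∀ X : F, u X ∈ (X : AddSubgroup V)) →
      ∑ X ∈ s, u X ∈ sSup (F \ {(W : AddSubgroup V)}) := by
    intro W s hs u hu
    refine AddSubgroup.sum_mem _ fun X hX => le_sSup (show (X : AddSubgroup V) ∈ F \ {(W : AddSubgroup V)}
      from ⟨X.2, fun e => hs ?_⟩) (hu X)
    rwa [← Subtype.ext (Set.mem_singleton_iff.1 e)]
  have hgmem : ∀ W : F, g • v W ∈ ((g • W : F) : AddSubgroup V) := fun W =>
    AddSubgroup.smul_mem_pointwise_smul _ g _ (hvW W)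
  have hfix' : ∑ W ∈ Δ'.toFinset, g • v W = ∑ W ∈ Δ'.toFinset, v W := by
    rw [← Finset.smul_sum]; exact hfix
  have hclosed : ∀ W ∈ Δ', g • W ∈ Δ' := by
    intro W hW
    by_contra hnot
    have h1 : g • v W = ∑ X ∈ Δ'.toFinset, v X - ∑ X ∈ Δ'.toFinset.erase W, g • v X := by
      rw [eq_sub_iff_add_eq]
      exact (Finset.add_sum_erase Δ'.toFinset (fun X => g • v X) (Set.mem_toFinset.2 hW)).trans hfix'
    have h2 : ∑ X ∈ Δ'.toFinset.erase W, g • v X ∈ sSup (F \ {((g • W : F) : AddSubgroup V)}) := by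
      refine AddSubgroup.sum_mem _ fun X hX => le_sSup (show ((g • X : F) : AddSubgroup V) ∈ F \
        {((g • W : F) : AddSubgroup V)} from ⟨(g • X).2, fun e => Finset.ne_of_mem_erase hX ?_⟩)
        (hgmem X)
      exact MulAction.injective g (Subtype.ext (Set.mem_singleton_iff.1 e))
    have h3 := sub_mem (hothers (g • W) Δ'.toFinset (by simpa using hnot) v hvW) h2
    rw [← h1] at h3
    have h4 := (hF.indep (g • W).2).le_bot (AddSubgroup.mem_inf.2 ⟨hgmem W, h3⟩)
    rw [AddSubgroup.mem_bot, smul_eq_zero_iff_eq] at h4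
    exact hv0 W h4
  have hgΔ : g • Δ' = Δ' := by
    refine Set.eq_of_subset_of_ncard_le ?_ (le_of_eq (Set.ncard_image_of_injective _
      (MulAction.injective g)).symm) (Set.toFinite _)
    rintro _ ⟨W, hW, rfl⟩
    exact hclosed W hW
  have hback : (∀ W : F, g • W = W) → ∀ W : F, a • W = W := fun hall W => by
    have := hall (h⁻¹ • W)
    rwa [hg, mul_smul, mul_smul, smul_inv_smul, smul_left_cancel_iff] at this
  by_cases hK : ∀ W : F, a • W = W
  · have hgW : ∀ W : F, g • W = W := fun W => by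
      rw [hg, mul_smul, mul_smul, hK, inv_smul_smul]
    have hall : Δ' = Set.univ := if_pos hK
    have htriv : ∀ W : F, ∀ w ∈ (W : AddSubgroup V), g • w = w := by
      intro W
      have hWmem : ∀ X : F, g • v X - v X ∈ (X : AddSubgroup V) := fun X =>
        sub_mem (by have := hgmem X; rwa [hgW X] at this) (hvW X)
      have h1 : ∑ X ∈ Δ'.toFinset, (g • v X - v X) = 0 := by
        rw [Finset.sum_sub_distrib, hfix', sub_self]
      rw [← Finset.add_sum_erase _ _ (Set.mem_toFinset.2 (hall ▸ Set.mem_univ W : W ∈ Δ'))] at h1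
      have h2 : g • v W - v W ∈ sSup (F \ {(W : AddSubgroup V)}) := by
        rw [eq_neg_of_add_eq_zero_left h1]
        exact neg_mem (hothers W _ (Finset.notMem_erase W _) _ hWmem)
      have h4 := (hF.indep W.2).le_bot (AddSubgroup.mem_inf.2 ⟨hWmem W, h2⟩)
      rw [AddSubgroup.mem_bot, sub_eq_zero] at h4
      exact hv W g hgP (congrArg Subtype.val (hgW W)) hgp h4
    obtain ⟨u, hu⟩ := hmove
    have htop' : sSup F ≤ fixEl g := sSup_le fun W hW w hw => htriv ⟨W, hW⟩ w hw
    have := htop' (htop ▸ AddSubgroup.mem_top (h⁻¹ • u))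
    rw [mem_fixEl, hg, mul_smul, smul_inv_smul, mul_smul, smul_left_cancel_iff] at this
    exact hu this
  · have hall : Δ' = Δ := if_neg hK
    rw [hall] at hgΔ
    exact hK (hback (hΔ g hgP hgΔ))

end Cfsg.Agent.Avoid92
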