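import Mathlib.GroupTheory.PGroup
import Mathlib.GroupTheory.SpecificGroups.Cyclic
import Mathlib.Algebra.GroupWithZero.Action.Basic
import Mathlib.Algebra.BigOperators.GroupWithZero.Action

/-!
# Fixed vectors of elements of an extraspecial group of exponent `p`

A group `D` of exponent `p` with centre `⟨z⟩` containing the commutators, with `z` acting without
fixed vectors, has a vector fixed by no element of `D` outside `⟨z⟩`.
-/

set_option autoImplicit false

namespace Cfsg.Agent.Avoid92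

variable {R V : Type*} [Group R] [AddCommGroup V] [DistribMulAction R V] {p : ℕ}

/-- The vectors fixed by one element. -/
def fixEl (x : R) : AddSubgroup V where
  carrier := {v | x • v = v}
  zero_mem' := smul_zero x
  add_mem' := fun {a b} ha hb => by
    show x • (a + b) = a + b
    rw [smul_add, show x • a = a from ha, show x • b = b from hb]
  neg_mem' := fun {a} ha => by
    show x • (-a) = -a
    rw [smul_neg, show x • a = a from ha]

@[simp] theorem mem_fixEl {x : R} {v : V} : v ∈ fixEl x ↔ x • v = v := Iff.rfl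

/-- The orbit sum of an element of order dividing `n` is fixed by it. -/
theorem smul_orbit_sum {u : R} {n : ℕ} (hu : u ^ n = 1) (w : V) :
    u • ∑ j ∈ Finset.range n, u ^ j • w = ∑ j ∈ Finset.range n, u ^ j • w := by
  have h1 := Finset.sum_range_succ (fun j => u ^ j • w) n
  rw [Finset.sum_range_succ'] at h1
  simp only [hu, pow_zero] at h1
  rw [Finset.smul_sum]
  simpa [← mul_smul, ← pow_succ'] using add_right_cancel h1

variable [hp : Fact p.Prime]

theorem mem_zpowers_pow {z : R} (hz : z ^ p = 1) {k : ℕ} (hk : ¬ p ∣ k) :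
    z ∈ Subgroup.zpowers (z ^ k) := by
  rcases (Nat.dvd_prime hp.out).1 (orderOf_dvd_of_pow_eq_one hz) with h | h
  · rw [orderOf_eq_one_iff.1 h]
    exact Subgroup.one_mem _
  · obtain ⟨m, -, hm⟩ := Nat.exists_mul_mod_eq_one_of_coprime
      ((Nat.Prime.coprime_iff_not_dvd hp.out).2 hk).symm hp.out.one_lt
    refine ⟨m, ?_⟩
    show (z ^ k) ^ (m : ℤ) = z
    rw [zpow_natCast, ← pow_mul, ← pow_mod_orderOf, h, hm, pow_one]

omit hp in
theorem smul_eq_of_mem_zpowers {u z : R} {t : V} (h : u • t = t) (hz : z ∈ Subgroup.zpowers u) :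
    z • t = t :=
  (Subgroup.zpowers_le.2 (show u ∈ MulAction.stabilizer R t from h)) hz

variable (hV : ∀ v : V, p • v = 0 → v = 0)

include hV

/-- An elementary abelian group of order `p ^ 2` does not act without fixed vectors. -/
theorem exists_fix {x z : R} (hxp : x ^ p = 1) (hzp : z ^ p = 1) (hc : Commute x z)
    {W : AddSubgroup V} (hWx : ∀ w ∈ W, x • w ∈ W) (hWz : ∀ w ∈ W, z • w ∈ W) (hW : W ≠ ⊥)
    (hfpf : ∀ w ∈ W, z • w = w → w = 0) : ∃ i < p, ∃ w ∈ W, w ≠ 0 ∧ (x * z ^ i) • w = w := by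
  by_contra hcon
  push Not at hcon
  obtain ⟨w, hw, hw0⟩ : ∃ w ∈ W, w ≠ 0 := by
    by_contra! h
    exact hW (eq_bot_iff.2 fun w hw => h w hw)
  have hpow : ∀ (u : R), (∀ v ∈ W, u • v ∈ W) → ∀ (n : ℕ), ∀ v ∈ W, u ^ n • v ∈ W := by
    intro u hu n
    induction n with
    | zero => intro v hv; rwa [pow_zero, one_smul]
    | succ n ih => intro v hv; rw [pow_succ', mul_smul]; exact hu _ (ih v hv)
  have hzero : ∀ i < p, ∑ j ∈ Finset.range p, (x * z ^ i) ^ j • w = 0 := by
    intro i hi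
    by_contra hne
    refine hcon i hi _ (W.sum_mem fun j _ => hpow _ (fun v hv => ?_) j w hw) hne
      (smul_orbit_sum ?_ w)
    · rw [mul_smul]; exact hWx _ (hpow z hWz i v hv)
    · rw [(hc.pow_right i).mul_pow, hxp, ← pow_mul, mul_comm, pow_mul, hzp, one_pow, one_mul]
  have h0 : ∑ i ∈ Finset.range p, ∑ j ∈ Finset.range p, (x * z ^ i) ^ j • w = 0 :=
    Finset.sum_eq_zero fun i hi => hzero i (Finset.mem_range.1 hi)
  rw [Finset.sum_comm, Finset.sum_eq_single 0] at h0
  · simp only [pow_zero, one_smul, Finset.sum_const, Finset.card_range] at h0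
    exact hw0 (hV w h0)
  · intro j hj hj0
    have hjp : ¬ p ∣ j := fun h => by
      have := Nat.le_of_dvd (Nat.pos_of_ne_zero hj0) h
      exact absurd (Finset.mem_range.1 hj) (by omega)
    have e : ∀ i, (x * z ^ i) ^ j • w = x ^ j • (z ^ j) ^ i • w := fun i => by
      rw [(hc.pow_right i).mul_pow, mul_smul, ← pow_mul, mul_comm i j, pow_mul]
    simp only [e, ← Finset.smul_sum]
    rw [hfpf _ (W.sum_mem fun i _ => hpow _ (hpow z hWz j) i w hw) ?_, smul_zero]
    exact smul_eq_of_mem_zpowers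
      (smul_orbit_sum (by rw [← pow_mul, mul_comm, pow_mul, hzp, one_pow]) w) (mem_zpowers_pow hzp hjp)
  · intro h
    exact absurd (Finset.mem_range.2 hp.out.pos) h

omit hp hV in
theorem conj_pow_comm {x y z : R} (hxz : Commute x z) (hyz : Commute y z) (hyx : y * x * y⁻¹ = z * x)
    (i : ℕ) : x * y ^ i = (z ^ i)⁻¹ * y ^ i * x := by
  have h1 : x * y = z⁻¹ * y * x := by
    rw [eq_comm, mul_assoc, inv_mul_eq_iff_eq_mul, ← mul_assoc, ← hyx]
    group
  induction i with
  | zero => simp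
  | succ i ih =>
    calc x * y ^ (i + 1) = x * y ^ i * y := by rw [pow_succ, mul_assoc]
      _ = (z ^ i)⁻¹ * y ^ i * (x * y) := by rw [ih, mul_assoc]
      _ = (z ^ i)⁻¹ * (y ^ i * z⁻¹) * (y * x) := by rw [h1]; simp only [mul_assoc]
      _ = (z ^ i)⁻¹ * (z⁻¹ * y ^ i) * (y * x) := by rw [((hyz.pow_left i).inv_right).eq]
      _ = (z ^ (i + 1))⁻¹ * y ^ (i + 1) * x := by
        rw [pow_succ' z, mul_inv_rev, pow_succ y]; simp only [mul_assoc]

/-- The fixed vectors of an element conjugate to all its translates by `⟨z⟩` are few. -/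
theorem card_fix_pow_le [Finite V] {x y z : R} (hxp : x ^ p = 1) (hyp : y ^ p = 1) (hzp : z ^ p = 1)
    (hz1 : z ≠ 1) (hxz : Commute x z) (hyz : Commute y z) (hyx : y * x * y⁻¹ = z * x)
    {W : AddSubgroup V} (hWy : ∀ w ∈ W, y • w ∈ W) (hWz : ∀ w ∈ W, z • w ∈ W)
    (hfpf : ∀ w ∈ W, z • w = w → w = 0) :
    Nat.card ↥(W ⊓ fixEl x) ^ p ≤ Nat.card W := by
  classical
  have hpow : ∀ (u : R), (∀ v ∈ W, u • v ∈ W) → ∀ (n : ℕ), ∀ v ∈ W, u ^ n • v ∈ W := by
    intro u hu n
    induction n with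
    | zero => intro v hv; rwa [pow_zero, one_smul]
    | succ n ih => intro v hv; rw [pow_succ', mul_smul]; exact hu _ (ih v hv)
  let f : (Fin p → ↥(W ⊓ fixEl x)) → ↥W := fun v =>
    ⟨∑ i : Fin p, y ^ (i : ℕ) • (v i : V), W.sum_mem fun i _ => hpow y hWy i _ (v i).2.1⟩
  have hf : Function.Injective f := by
    intro v v' h
    have h' : ∑ i : Fin p, y ^ (i : ℕ) • (((v i : V)) - (v' i : V)) = 0 := by
      simp only [smul_sub, Finset.sum_sub_distrib, sub_eq_zero]
      exact congrArg Subtype.val h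
    funext k
    refine Subtype.ext (sub_eq_zero.1 (hV _ ?_))
    set d : Fin p → V := fun i => (v i : V) - (v' i : V)
    have hd : ∀ i, x • d i = d i := fun i => by
      rw [show x • d i = x • (v i : V) - x • (v' i : V) from smul_sub x _ _,
        show x • (v i : V) = v i from (v i).2.2, show x • (v' i : V) = v' i from (v' i).2.2]
    have hdW : ∀ i, d i ∈ W := fun i => W.sub_mem (v i).2.1 (v' i).2.1
    set u : Fin p → R := fun i => (y ^ (k : ℕ))⁻¹ * y ^ (i : ℕ)
    set c : Fin p → R := fun i => z ^ (k : ℕ) * (z ^ (i : ℕ))⁻¹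
    have hxu : ∀ i, x * u i = c i * u i * x := by
      intro i
      have e1 := conj_pow_comm hxz hyz hyx (k : ℕ)
      have e2 := conj_pow_comm hxz hyz hyx (i : ℕ)
      have e1' : x * (y ^ (k : ℕ))⁻¹ = z ^ (k : ℕ) * (y ^ (k : ℕ))⁻¹ * x := by
        rw [mul_inv_eq_iff_eq_mul, mul_assoc _ x, e1]
        simp only [mul_assoc]
        rw [← mul_assoc (y ^ (k : ℕ))⁻¹ (z ^ (k : ℕ))⁻¹, ((hyz.pow_pow (k : ℕ) (k : ℕ)).inv_inv).eq]
        group
      show x * ((y ^ (k : ℕ))⁻¹ * y ^ (i : ℕ)) = _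
      rw [← mul_assoc, e1', mul_assoc _ x, e2]
      show _ = z ^ (k : ℕ) * (z ^ (i : ℕ))⁻¹ * ((y ^ (k : ℕ))⁻¹ * y ^ (i : ℕ)) * x
      simp only [mul_assoc]
      rw [← mul_assoc (y ^ (k : ℕ))⁻¹ (z ^ (i : ℕ))⁻¹,
        ((hyz.pow_pow (k : ℕ) (i : ℕ)).inv_inv).eq, mul_assoc]
    have hcx : ∀ i, Commute x (c i) := fun i =>
      (hxz.pow_right _).mul_right (hxz.pow_right _).inv_right
    have hterm : ∀ i (j : ℕ), x ^ j • u i • d i = c i ^ j • u i • d i := by
      intro i j
      induction j with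
      | zero => simp
      | succ j ih =>
        rw [pow_succ', mul_smul, ih, ← mul_smul, ((hcx i).pow_right j).eq, mul_smul, ← mul_smul x,
          hxu i, mul_smul, hd i, mul_smul, ← mul_smul (c i ^ j), ← pow_succ]
    have h0 : ∑ j ∈ Finset.range p, x ^ j • ((y ^ (k : ℕ))⁻¹ • ∑ i : Fin p, y ^ (i : ℕ) • d i) = 0 := by
      rw [h']
      simp
    rw [Finset.smul_sum] at h0
    simp only [Finset.smul_sum, ← mul_smul (y ^ (k : ℕ))⁻¹] at h0
    rw [Finset.sum_comm, Finset.sum_eq_single k] at h0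
    · have e : ∀ j : ℕ, x ^ j • u k • d k = d k := fun j => by
        rw [hterm, show c k = 1 by simp [c], one_pow, one_smul, show u k = 1 by simp [u], one_smul]
      simp only [show ∀ j : ℕ, x ^ j • ((y ^ (k : ℕ))⁻¹ * y ^ (k : ℕ)) • d k = d k from e,
        Finset.sum_const, Finset.card_range] at h0
      exact h0
    · intro i _ hik
      have hzord : orderOf z = p := orderOf_eq_prime hzp hz1
      have hgen : z ∈ Subgroup.zpowers (c i) := by
        have hcm : c i = z ^ (((k : ℕ) + (p - (i : ℕ))) % p) := by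
          rw [← pow_eq_pow_mod _ hzp, pow_add]
          show z ^ (k : ℕ) * (z ^ (i : ℕ))⁻¹ = _
          congr 1
          rw [inv_eq_iff_mul_eq_one, ← pow_add, Nat.add_sub_cancel' i.2.le, hzp]
        rw [hcm]
        refine mem_zpowers_pow hzp fun hdvd => hik (Fin.ext ?_)
        have h1 : ((k : ℕ) + (p - (i : ℕ))) % p = 0 :=
          Nat.eq_zero_of_dvd_of_lt hdvd (Nat.mod_lt _ hp.out.pos)
        obtain ⟨m, hm⟩ := Nat.dvd_of_mod_eq_zero h1
        rcases m with _ | _ | m
        · omega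
        · omega
        · have : p * 2 ≤ p * (m + 1 + 1) := Nat.mul_le_mul_left _ (by omega)
          omega
      simp only [show ∀ j : ℕ, x ^ j • ((y ^ (k : ℕ))⁻¹ * y ^ (i : ℕ)) • d i = c i ^ j • u i • d i
        from hterm i]
      refine hfpf _ (W.sum_mem fun j _ => hpow _ (fun w hw => ?_) j _ ?_)
        (smul_eq_of_mem_zpowers (smul_orbit_sum ?_ _) hgen)
      · show (z ^ (k : ℕ) * (z ^ (i : ℕ))⁻¹) • w ∈ W
        rw [inv_eq_of_mul_eq_one_right (show z ^ (i : ℕ) * z ^ (p - (i : ℕ)) = 1 by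
          rw [← pow_add, Nat.add_sub_cancel' i.2.le, hzp]), ← pow_add]
        exact hpow z hWz _ w hw
      · show ((y ^ (k : ℕ))⁻¹ * y ^ (i : ℕ)) • d i ∈ W
        rw [inv_eq_of_mul_eq_one_right (show y ^ (k : ℕ) * y ^ (p - (k : ℕ)) = 1 by
          rw [← pow_add, Nat.add_sub_cancel' k.2.le, hyp]), ← pow_add]
        exact hpow y hWy _ _ (hdW i)
      · show (z ^ (k : ℕ) * (z ^ (i : ℕ))⁻¹) ^ p = 1
        rw [((Commute.refl z).pow_pow _ _).inv_right.mul_pow, inv_pow, ← pow_mul, ← pow_mul,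
          mul_comm (k : ℕ), mul_comm (i : ℕ), pow_mul, pow_mul, hzp, one_pow, one_pow, inv_one, one_mul]
    · intro h; exact absurd (Finset.mem_univ k) h
  have h := Nat.card_le_card_of_injective f hf
  rwa [Nat.card_fun, Nat.card_fin] at h

end Cfsg.Agent.Avoid92
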