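import Cfsg.Agent.Avoid92.Fix
import Mathlib.GroupTheory.Index
import Mathlib.GroupTheory.OrderOfElement
import Mathlib.Data.Set.Card
import Mathlib.Tactic.Linarith
import Mathlib.Tactic.Ring

/-!
# Extraspecial groups of odd exponent acting without fixed vectors at the centre

Such a group fixes some vector only with its trivial element: no element outside the centre
fixes it.
-/

set_option autoImplicit false

namespace Cfsg.Agent.Avoid92

variable {R V : Type*} [Group R] [AddCommGroup V] [DistribMulAction R V] {p : ℕ}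

/-- A subgroup of exponent `p` whose centre is generated by `z` and contains the commutators. -/
structure Xs (p : ℕ) (D : Subgroup R) (z : R) : Prop where
  mem : z ∈ D
  exp : ∀ d ∈ D, d ^ p = 1
  comm : ∀ a ∈ D, ∀ b ∈ D, a * b * a⁻¹ * b⁻¹ ∈ Subgroup.zpowers z
  central : ∀ d ∈ D, Commute d z
  centre : ∀ a ∈ D, (∀ b ∈ D, Commute a b) → a ∈ Subgroup.zpowers z
  ne_one : z ≠ 1

/-- A product of powers of `x` and `y` moves `r` into their common centralizer. -/
theorem exists_adjust {x y z r : R} (hxz : Commute x z) (hyz : Commute y z) (hrz : Commute r z)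
    (hyx : y * x * y⁻¹ = z * x) (hxr : x * r * x⁻¹ * r⁻¹ ∈ Subgroup.zpowers z)
    (hyr : y * r * y⁻¹ * r⁻¹ ∈ Subgroup.zpowers z) :
    ∃ i j : ℤ, Commute x (x ^ i * y ^ j * r) ∧ Commute y (x ^ i * y ^ j * r) := by
  obtain ⟨a, ha⟩ := Subgroup.mem_zpowers_iff.1 hxr
  obtain ⟨b, hb⟩ := Subgroup.mem_zpowers_iff.1 hyr
  have hxy : x * y * x⁻¹ = z⁻¹ * y := by
    have h : y * x = z * x * y := by rw [← hyx]; group
    rw [mul_inv_eq_iff_eq_mul, mul_assoc, eq_inv_mul_iff_mul_eq, h, mul_assoc]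
  refine ⟨-b, a, ?_, ?_⟩
  · have e : MulAut.conj x (x ^ (-b) * y ^ a * r) = x ^ (-b) * y ^ a * r := by
      have e1 : MulAut.conj x (y ^ a) = z ^ (-a) * y ^ a := by
        rw [map_zpow, MulAut.conj_apply, hxy, hyz.symm.inv_left.mul_zpow, inv_zpow, zpow_neg]
      have e2 : MulAut.conj x r = z ^ a * r := by
        rw [MulAut.conj_apply, ha]; group
      rw [map_mul, map_mul, map_zpow, e1, e2,
        show MulAut.conj x x = x by simp]
      rw [(hyz.symm.zpow_zpow (-a) a).eq, mul_assoc, mul_assoc, ← mul_assoc (z ^ (-a)), ← zpow_add]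
      simp only [neg_add_cancel, zpow_zero, one_mul, mul_assoc]
    rw [MulAut.conj_apply, mul_inv_eq_iff_eq_mul] at e
    exact e
  · have e : MulAut.conj y (x ^ (-b) * y ^ a * r) = x ^ (-b) * y ^ a * r := by
      have e1 : MulAut.conj y (x ^ (-b)) = z ^ (-b) * x ^ (-b) := by
        rw [map_zpow, MulAut.conj_apply, hyx, hxz.symm.mul_zpow]
      have e2 : MulAut.conj y r = z ^ b * r := by
        rw [MulAut.conj_apply, hb]; group
      rw [map_mul, map_mul, map_zpow _ y, e1, e2, show MulAut.conj y y = y by simp]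
      have hc : Commute (x ^ (-b) * y ^ a) (z ^ b) :=
        (hxz.zpow_zpow _ _).mul_left (hyz.zpow_zpow _ _)
      rw [mul_assoc (z ^ (-b)), mul_assoc (z ^ (-b)), ← mul_assoc (x ^ (-b) * y ^ a), hc.eq,
        mul_assoc (z ^ b), ← mul_assoc (z ^ (-b)), ← zpow_add, neg_add_cancel, zpow_zero, one_mul]
    rw [MulAut.conj_apply, mul_inv_eq_iff_eq_mul] at e
    exact e

variable [hp : Fact p.Prime] {D : Subgroup R} {z : R}

omit hp in
theorem Xs.zpowers_le (h : Xs p D z) : Subgroup.zpowers z ≤ D := Subgroup.zpowers_le.2 h.mem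

theorem Xs.card_zpowers (h : Xs p D z) : Nat.card (Subgroup.zpowers z) = p := by
  rw [Nat.card_zpowers]
  exact orderOf_eq_prime (h.exp z h.mem) h.ne_one

theorem Xs.exists_partner (h : Xs p D z) {x : R} (hx : x ∈ D) (hxz : x ∉ Subgroup.zpowers z) :
    ∃ y ∈ D, y * x * y⁻¹ = z * x := by
  obtain ⟨b, hb, hbx⟩ : ∃ b ∈ D, ¬ Commute x b := by
    by_contra! hc
    exact hxz (h.centre x hx hc)
  have hzp := h.exp z h.mem
  have hm := h.comm b hb x hx
  have hfin : IsOfFinOrder z := isOfFinOrder_iff_pow_eq_one.2 ⟨p, hp.out.pos, hzp⟩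
  rw [← hfin.mem_powers_iff_mem_zpowers] at hm
  obtain ⟨k, hk⟩ := hm
  have hk' : z ^ k = b * x * b⁻¹ * x⁻¹ := hk
  have hkp : ¬ p ∣ k := by
    rintro ⟨c, rfl⟩
    apply hbx
    rw [pow_mul, hzp, one_pow] at hk'
    show x * b = b * x
    rw [eq_comm, mul_inv_eq_one, mul_inv_eq_iff_eq_mul] at hk'
    exact hk'.symm
  obtain ⟨m, -, hm⟩ := Nat.exists_mul_mod_eq_one_of_coprime
    ((Nat.Prime.coprime_iff_not_dvd hp.out).2 hkp).symm hp.out.one_lt
  refine ⟨b ^ m, D.pow_mem hb m, ?_⟩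
  have key : ∀ n : ℕ, b ^ n * x * (b ^ n)⁻¹ = z ^ (k * n) * x := by
    intro n
    induction n with
    | zero => simp
    | succ n ih =>
      calc b ^ (n + 1) * x * (b ^ (n + 1))⁻¹ = b * (b ^ n * x * (b ^ n)⁻¹) * b⁻¹ := by
            rw [pow_succ']; group
        _ = z ^ (k * n) * (z ^ k * x) := by
            rw [ih, hk', ← mul_assoc b, ((h.central b hb).pow_right (k * n)).eq]
            group
        _ = z ^ (k * (n + 1)) * x := by rw [← mul_assoc, ← pow_add, Nat.mul_succ]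
  rw [key, pow_eq_pow_mod _ hzp, hm, pow_one]

theorem Xs.inf_centralizer (h : Xs p D z) {x y : R} (hx : x ∈ D) (hy : y ∈ D)
    (hyx : y * x * y⁻¹ = z * x) : Xs p (D ⊓ Subgroup.centralizer {x, y}) z := by
  refine ⟨⟨h.mem, ?_⟩, fun d hd => h.exp d hd.1, fun a ha b hb => h.comm a ha.1 b hb.1,
    fun d hd => h.central d hd.1, fun a ha hac => h.centre a ha.1 fun d hd => ?_, h.ne_one⟩
  · rintro g (rfl | rfl)
    exacts [(h.central _ hx).eq, (h.central _ hy).eq]
  · obtain ⟨i, j, hcx, hcy⟩ := exists_adjust (h.central x hx) (h.central y hy) (h.central d hd) hyx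
      (h.comm x hx d hd) (h.comm y hy d hd)
    have hg : x ^ i * y ^ j * d ∈ D ⊓ Subgroup.centralizer {x, y} := by
      refine ⟨D.mul_mem (D.mul_mem (D.zpow_mem hx i) (D.zpow_mem hy j)) hd, ?_⟩
      rintro g (rfl | rfl)
      exacts [hcx.eq, hcy.eq]
    have hax : Commute a x := (ha.2 x (Set.mem_insert _ _)).symm
    have hay : Commute a y := (ha.2 y (Set.mem_insert_of_mem _ rfl)).symm
    have := ((hax.zpow_right i).mul_right (hay.zpow_right j)).inv_right.mul_right (hac _ hg)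
    rwa [← mul_assoc, inv_mul_cancel, one_mul] at this

theorem Xs.card_eq (h : Xs p D z) {x y : R} (hx : x ∈ D) (hy : y ∈ D)
    (hyx : y * x * y⁻¹ = z * x) :
    Nat.card D = p ^ 2 * Nat.card ↥(D ⊓ Subgroup.centralizer {x, y} : Subgroup R) := by
  have hmul : ∀ u ∈ D, ∀ d ∈ D, ∀ e ∈ D,
      u * (d * e) * u⁻¹ * (d * e)⁻¹ = (u * d * u⁻¹ * d⁻¹) * (u * e * u⁻¹ * e⁻¹) := by
    intro u hu d hd e he
    obtain ⟨k, hk⟩ := Subgroup.mem_zpowers_iff.1 (h.comm u hu e he)
    have hc : Commute (z ^ k) d⁻¹ := ((h.central d hd).symm.zpow_left k).inv_right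
    calc u * (d * e) * u⁻¹ * (d * e)⁻¹ = u * d * u⁻¹ * ((u * e * u⁻¹ * e⁻¹) * d⁻¹) := by group
      _ = u * d * u⁻¹ * (d⁻¹ * (u * e * u⁻¹ * e⁻¹)) := by rw [← hk, hc.eq]
      _ = _ := by group
  let φ : D →* Subgroup.zpowers z × Subgroup.zpowers z :=
    MonoidHom.mk' (fun d => (⟨x * d * x⁻¹ * (d : R)⁻¹, h.comm x hx _ d.2⟩,
      ⟨y * d * y⁻¹ * (d : R)⁻¹, h.comm y hy _ d.2⟩))
      fun d e => Prod.ext (Subtype.ext (hmul x hx _ d.2 _ e.2)) (Subtype.ext (hmul y hy _ d.2 _ e.2))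
  have hker : φ.ker = (D ⊓ Subgroup.centralizer {x, y}).subgroupOf D := by
    ext d
    rw [MonoidHom.mem_ker, Subgroup.mem_subgroupOf]
    constructor
    · intro hd
      refine ⟨d.2, ?_⟩
      have h1 : x * d * x⁻¹ * (d : R)⁻¹ = 1 :=
        congrArg Subtype.val (congrArg Prod.fst hd)
      have h2 : y * d * y⁻¹ * (d : R)⁻¹ = 1 :=
        congrArg Subtype.val (congrArg Prod.snd hd)
      rw [mul_inv_eq_one, mul_inv_eq_iff_eq_mul] at h1 h2
      rintro g (rfl | rfl)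
      exacts [h1, h2]
    · intro hd
      refine Prod.ext (Subtype.ext ?_) (Subtype.ext ?_)
      · show x * d * x⁻¹ * (d : R)⁻¹ = 1
        rw [mul_inv_eq_one, mul_inv_eq_iff_eq_mul]
        exact hd.2 x (Set.mem_insert _ _)
      · show y * d * y⁻¹ * (d : R)⁻¹ = 1
        rw [mul_inv_eq_one, mul_inv_eq_iff_eq_mul]
        exact hd.2 y (Set.mem_insert_of_mem _ rfl)
  have hsurj : Function.Surjective φ := by
    rintro ⟨⟨_, u, rfl⟩, ⟨_, v, rfl⟩⟩
    refine ⟨(⟨y, hy⟩ : D) ^ (-u) * (⟨x, hx⟩ : D) ^ v, ?_⟩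
    have hxy : x * y * x⁻¹ * y⁻¹ = z⁻¹ := by
      have : y * x = z * x * y := by rw [← hyx]; group
      rw [mul_assoc (x * y), ← mul_inv_rev, this]; group
    have ey : φ ⟨y, hy⟩ = (⟨z, Subgroup.mem_zpowers z⟩⁻¹, 1) := by
      refine Prod.ext (Subtype.ext ?_) (Subtype.ext ?_)
      · exact hxy
      · show y * y * y⁻¹ * y⁻¹ = 1
        group
    have ex : φ ⟨x, hx⟩ = (1, ⟨z, Subgroup.mem_zpowers z⟩) := by
      refine Prod.ext (Subtype.ext ?_) (Subtype.ext ?_)
      · show x * x * x⁻¹ * x⁻¹ = 1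
        group
      · show y * x * y⁻¹ * x⁻¹ = z
        rw [hyx]; group
    rw [map_mul, map_zpow, map_zpow, ey, ex]
    refine Prod.ext (Subtype.ext ?_) (Subtype.ext ?_) <;> simp
  have h1 := φ.ker.card_mul_index
  rw [Subgroup.index_ker, MonoidHom.range_eq_top.2 hsurj,
    Nat.card_congr Subgroup.topEquiv.toEquiv, Nat.card_prod, h.card_zpowers, hker,
    Nat.card_congr (Subgroup.subgroupOfEquivOfLe inf_le_left).toEquiv] at h1
  rw [← h1]
  ring

variable [Finite R]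

/-- An element normalising `D` modulo the centre is an element of `D` times one centralising `D`. -/
theorem Xs.exists_split (h : Xs p D z) {r : R} (hrz : Commute r z)
    (hrD : ∀ d ∈ D, d * r * d⁻¹ * r⁻¹ ∈ Subgroup.zpowers z) :
    ∃ d ∈ D, ∀ e ∈ D, Commute e (d * r) := by
  induction hn : Nat.card D using Nat.strong_induction_on generalizing D r with
  | _ n ih =>
    by_cases hD : ∀ x ∈ D, x ∈ Subgroup.zpowers z
    · refine ⟨1, D.one_mem, fun e he => ?_⟩
      obtain ⟨k, rfl⟩ := Subgroup.mem_zpowers_iff.1 (hD e he)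
      rw [one_mul]
      exact hrz.symm.zpow_left k
    push Not at hD
    obtain ⟨x, hx, hxz⟩ := hD
    obtain ⟨y, hy, hyx⟩ := h.exists_partner hx hxz
    have hcz := h.central
    obtain ⟨i, j, hcx, hcy⟩ :=
      exists_adjust (hcz x hx) (hcz y hy) hrz hyx (hrD x hx) (hrD y hy)
    have hD' := h.inf_centralizer hx hy hyx
    have hlt : Nat.card ↥(D ⊓ Subgroup.centralizer {x, y} : Subgroup R) < n := by
      rw [← hn, h.card_eq hx hy hyx]
      exact lt_mul_of_one_lt_left Nat.card_pos (one_lt_pow₀ hp.out.one_lt two_ne_zero)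
    have hgD : x ^ i * y ^ j ∈ D := D.mul_mem (D.zpow_mem hx i) (D.zpow_mem hy j)
    have hgc : ∀ e ∈ D ⊓ Subgroup.centralizer {x, y}, Commute e (x ^ i * y ^ j) := fun e he =>
      (Commute.zpow_right (he.2 x (Set.mem_insert _ _)).symm i).mul_right
        (Commute.zpow_right (he.2 y (Set.mem_insert_of_mem _ rfl)).symm j)
    have hr' : ∀ e ∈ D ⊓ Subgroup.centralizer {x, y},
        e * (x ^ i * y ^ j * r) * e⁻¹ * (x ^ i * y ^ j * r)⁻¹ ∈ Subgroup.zpowers z := by
      intro e he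
      obtain ⟨k, hk⟩ := Subgroup.mem_zpowers_iff.1 (hrD e he.1)
      refine Subgroup.mem_zpowers_iff.2 ⟨k, hk.trans ?_⟩
      have hc : Commute (x ^ i * y ^ j) (e * r * e⁻¹ * r⁻¹) := by
        rw [← hk]
        exact (hcz _ hgD).zpow_right k
      symm
      calc e * (x ^ i * y ^ j * r) * e⁻¹ * (x ^ i * y ^ j * r)⁻¹
          = (e * (x ^ i * y ^ j)) * r * e⁻¹ * r⁻¹ * (x ^ i * y ^ j)⁻¹ := by group
        _ = (x ^ i * y ^ j) * (e * r * e⁻¹ * r⁻¹) * (x ^ i * y ^ j)⁻¹ := by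
          rw [(hgc e he).eq]; group
        _ = e * r * e⁻¹ * r⁻¹ := by rw [hc.eq, mul_inv_cancel_right]
    obtain ⟨d, hd, hdc⟩ := ih _ hlt hD' ((hcz _ hgD).mul_left hrz) hr' rfl
    refine ⟨d * (x ^ i * y ^ j), D.mul_mem hd.1 hgD, fun e he => ?_⟩
    rw [mul_assoc]
    obtain ⟨i', j', hcx', hcy'⟩ :=
      exists_adjust (hcz x hx) (hcz y hy) (hcz e he) hyx (h.comm x hx e he) (h.comm y hy e he)
    have hex : Commute x (d * (x ^ i * y ^ j * r)) :=
      (Commute.mul_right (hd.2 x (Set.mem_insert _ _)) hcx)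
    have hey : Commute y (d * (x ^ i * y ^ j * r)) :=
      (Commute.mul_right (hd.2 y (Set.mem_insert_of_mem _ rfl)) hcy)
    have he' : x ^ i' * y ^ j' * e ∈ D ⊓ Subgroup.centralizer {x, y} := by
      refine ⟨D.mul_mem (D.mul_mem (D.zpow_mem hx i') (D.zpow_mem hy j')) he, ?_⟩
      rintro g (rfl | rfl)
      exacts [hcx'.eq, hcy'.eq]
    have := ((hex.zpow_left i').mul_left (hey.zpow_left j')).inv_left.mul_left (hdc _ he')
    rwa [← mul_assoc, inv_mul_cancel, one_mul] at this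

variable [Finite V] (hV : ∀ v : V, p • v = 0 → v = 0)

include hV

/-- Some element outside the centre has a big space of fixed vectors. -/
theorem Xs.exists_big_fix (h : Xs p D z) {W : AddSubgroup V} (hW : W ≠ ⊥)
    (hWD : ∀ d ∈ D, ∀ w ∈ W, d • w ∈ W) (hfpf : ∀ w ∈ W, z • w = w → w = 0)
    {x : R} (hx : x ∈ D) (hxz : x ∉ Subgroup.zpowers z) :
    ∃ x₁ ∈ D, x₁ ∉ Subgroup.zpowers z ∧ ∃ y ∈ D, y * x₁ * y⁻¹ = z * x₁ ∧
      W ⊓ fixEl x₁ ≠ ⊥ := by
  have hzp := h.exp z h.mem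
  obtain ⟨i, -, w, hw, hw0, hfix⟩ := exists_fix hV (h.exp x hx) hzp (h.central x hx) (hWD x hx)
    (hWD z h.mem) hW hfpf
  have hx₁ : x * z ^ i ∉ Subgroup.zpowers z := fun hm => hxz <| by
    have := mul_mem hm (inv_mem ((Subgroup.zpowers z).pow_mem (Subgroup.mem_zpowers z) i))
    rwa [mul_inv_cancel_right] at this
  have hx₁D : x * z ^ i ∈ D := D.mul_mem hx (D.pow_mem h.mem i)
  obtain ⟨y, hy, hyx⟩ := h.exists_partner hx₁D hx₁
  exact ⟨_, hx₁D, hx₁, y, hy, hyx, fun he => hw0 <| by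
    simpa [he] using (show w ∈ W ⊓ fixEl (x * z ^ i) from ⟨hw, hfix⟩)⟩

/-- A space on which the centre acts without fixed vectors is large. -/
theorem Xs.exists_bound (h : Xs p D z) {W : AddSubgroup V} (hW : W ≠ ⊥)
    (hWD : ∀ d ∈ D, ∀ w ∈ W, d • w ∈ W) (hfpf : ∀ w ∈ W, z • w = w → w = 0) :
    ∃ r, Nat.card D = p ^ (2 * r + 1) ∧ (p + 1) ^ p ^ r ≤ Nat.card W := by
  induction hn : Nat.card D using Nat.strong_induction_on generalizing D W with
  | _ n ih =>
    have hzp := h.exp z h.mem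
    by_cases hD : ∀ x ∈ D, x ∈ Subgroup.zpowers z
    · refine ⟨0, ?_, ?_⟩
      · rw [← hn, le_antisymm hD h.zpowers_le, h.card_zpowers]; simp
      obtain ⟨w, hw, hw0⟩ : ∃ w ∈ W, w ≠ 0 := by
        by_contra! hc
        exact hW (eq_bot_iff.2 fun w hw => hc w hw)
      let f : Option (Fin p) → W := fun o =>
        o.elim 0 fun i => ⟨z ^ (i : ℕ) • w, hWD _ (D.pow_mem h.mem _) w hw⟩
      have hinj : ∀ i j : Fin p, i ≤ j → z ^ (i : ℕ) • w = z ^ (j : ℕ) • w → i = j := by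
        intro i j hij he
        by_contra hne
        have hk : ¬ p ∣ (j : ℕ) - i := fun hd => by
          have h1 : (i : ℕ) < j := lt_of_le_of_ne hij fun e => hne (Fin.ext e)
          have := Nat.le_of_dvd (by omega) hd
          have := j.2
          omega
        rw [← Nat.add_sub_cancel' (show (i : ℕ) ≤ j from hij), pow_add, mul_smul] at he
        exact hw0 (hfpf w hw (smul_eq_of_mem_zpowers (smul_left_cancel _ he).symm
          (mem_zpowers_pow hzp hk)))
      have hf : Function.Injective f := by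
        rintro (_ | i) (_ | j) he
        · rfl
        · exact absurd ((smul_eq_zero_iff_eq _).1 (congrArg Subtype.val he).symm) hw0
        · exact absurd ((smul_eq_zero_iff_eq _).1 (congrArg Subtype.val he)) hw0
        · rcases le_total i j with hij | hij
          · rw [hinj i j hij (congrArg Subtype.val he)]
          · rw [hinj j i hij (congrArg Subtype.val he).symm]
      have := Nat.card_le_card_of_injective f hf
      rw [Finite.card_option, Nat.card_fin] at this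
      simpa using this
    push Not at hD
    obtain ⟨x, hx, hxz⟩ := hD
    obtain ⟨x, hx, hxz, y, hy, hyx, hW'⟩ := h.exists_big_fix hV hW hWD hfpf hx hxz
    have hcard := h.card_eq hx hy hyx
    have hlt : Nat.card ↥(D ⊓ Subgroup.centralizer {x, y} : Subgroup R) < n := by
      rw [← hn, hcard]
      exact lt_mul_of_one_lt_left Nat.card_pos (one_lt_pow₀ hp.out.one_lt two_ne_zero)
    obtain ⟨r, hr, hr'⟩ := ih _ hlt (h.inf_centralizer hx hy hyx) hW'
      (fun d hd w hw => ⟨hWD d hd.1 w hw.1, show x • d • w = d • w by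
        rw [← mul_smul, (hd.2 x (Set.mem_insert _ _)), mul_smul, hw.2]⟩)
      (fun w hw => hfpf w hw.1) rfl
    refine ⟨r + 1, by rw [← hn, hcard, hr]; ring, ?_⟩
    rw [pow_succ, pow_mul]
    exact le_trans (Nat.pow_le_pow_left hr' p) (card_fix_pow_le hV (h.exp x hx) (h.exp y hy) hzp
      h.ne_one (h.central x hx) (h.central y hy) hyx (hWD y hy) (hWD z h.mem) hfpf)

/-- Some nonzero vector is fixed by no element of `D` outside the centre. -/
theorem Xs.exists_avoid (hp2 : p ≠ 2) (h : Xs p D z) {W : AddSubgroup V} (hW : W ≠ ⊥)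
    (hWD : ∀ d ∈ D, ∀ w ∈ W, d • w ∈ W) (hfpf : ∀ w ∈ W, z • w = w → w = 0) :
    ∃ w ∈ W, w ≠ 0 ∧ ∀ x ∈ D, x ∉ Subgroup.zpowers z → x • w ≠ w := by
  classical
  by_contra hcon
  push Not at hcon
  obtain ⟨w, hw, hw0⟩ : ∃ w ∈ W, w ≠ 0 := by
    by_contra! hc
    exact hW (eq_bot_iff.2 fun w hw => hc w hw)
  have hzp := h.exp z h.mem
  obtain ⟨x, hx, hxz, -⟩ := hcon w hw hw0
  obtain ⟨x, hx, hxz, y, hy, hyx, hW'⟩ := h.exists_big_fix hV hW hWD hfpf hx hxz
  obtain ⟨r, hr, hr'⟩ := (h.inf_centralizer hx hy hyx).exists_bound hV hW'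
    (fun d hd w hw => ⟨hWD d hd.1 w hw.1, show x • d • w = d • w by
      rw [← mul_smul, (hd.2 x (Set.mem_insert _ _)), mul_smul, hw.2]⟩) (fun w hw => hfpf w hw.1)
  have hcardD : Nat.card D = p ^ (2 * r + 3) := by rw [h.card_eq hx hy hyx, hr]; ring
  set S := (Set.toFinite ((D : Set R) \ Subgroup.zpowers z)).toFinset with hS
  have hmem : ∀ u, u ∈ S ↔ u ∈ D ∧ u ∉ Subgroup.zpowers z := fun u => by simp [hS]
  have hScard : S.card = p ^ (2 * r + 3) - p := by
    rw [hS, ← Set.ncard_eq_toFinset_card, Set.ncard_sdiff (fun u hu => h.zpowers_le hu)]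
    rw [← Nat.card_coe_set_eq, ← Nat.card_coe_set_eq]
    exact congrArg₂ (· - ·) hcardD h.card_zpowers
  obtain ⟨x₀, hx₀, hmax⟩ := S.exists_max_image (fun u => Nat.card ↥(W ⊓ fixEl u))
    ⟨x, (hmem x).2 ⟨hx, hxz⟩⟩
  set M := Nat.card ↥(W ⊓ fixEl x₀) with hM
  have hM1 : (p + 1) ^ p ^ r ≤ M := hr'.trans (hmax x ((hmem x).2 ⟨hx, hxz⟩))
  obtain ⟨hx₀D, hx₀z⟩ := (hmem x₀).1 hx₀
  obtain ⟨y₀, hy₀, hyx₀⟩ := h.exists_partner hx₀D hx₀z
  have hp3 : 3 ≤ p := by have := hp.out.two_le; omega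
  have hMW : M ^ 3 ≤ Nat.card W := le_trans (Nat.pow_le_pow_right Nat.card_pos hp3)
    (card_fix_pow_le hV (h.exp x₀ hx₀D) (h.exp y₀ hy₀) hzp h.ne_one (h.central x₀ hx₀D)
      (h.central y₀ hy₀) hyx₀ (hWD y₀ hy₀) (hWD z h.mem) hfpf)
  set F := (Set.toFinite ((W : Set V) \ {0})).toFinset with hF
  have hFmem : ∀ v, v ∈ F ↔ v ∈ W ∧ v ≠ 0 := fun v => by simp [hF]
  have hFcard : F.card = Nat.card W - 1 := by
    rw [hF, ← Set.ncard_eq_toFinset_card, Set.ncard_sdiff_singleton_of_mem W.zero_mem,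
      ← Nat.card_coe_set_eq]
    rfl
  have hlow : ∀ v ∈ F, p - 1 ≤ (S.filter fun u => u • v = v).card := by
    intro v hv
    obtain ⟨u, hu, huz, huv⟩ := hcon v ((hFmem v).1 hv).1 ((hFmem v).1 hv).2
    have hu1 : u ≠ 1 := fun e => huz (e ▸ Subgroup.one_mem _)
    have hord : orderOf u = p := orderOf_eq_prime (h.exp u hu) hu1
    rw [show p - 1 = (Finset.Icc 1 (p - 1)).card by simp]
    refine Finset.card_le_card_of_injOn (fun j => u ^ j) (fun j hj => ?_) fun i hi j hj hij => ?_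
    · obtain ⟨hj1, hj2⟩ := Finset.mem_Icc.1 hj
      refine Finset.mem_filter.2 ⟨(hmem _).2 ⟨D.pow_mem hu j, fun hm => huz ?_⟩,
        smul_eq_of_mem_zpowers huv ((Subgroup.zpowers u).pow_mem (Subgroup.mem_zpowers u) j)⟩
      exact Subgroup.zpowers_le.2 hm (mem_zpowers_pow (h.exp u hu) fun hd => by
        have := Nat.le_of_dvd (by omega) hd
        omega)
    · simp only [Finset.coe_Icc, Set.mem_Icc] at hi hj
      exact pow_injOn_Iio_orderOf (by simp [hord]; omega) (by simp [hord]; omega) hij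
  have hhigh : ∀ u ∈ S, (F.filter fun v => u • v = v).card ≤ M - 1 := by
    intro u hu
    have hsub : (↑(F.filter fun v => u • v = v) : Set V) ⊆ ((W ⊓ fixEl u : AddSubgroup V) : Set V) \ {0} := by
      intro v hv
      obtain ⟨h1, h2⟩ := Finset.mem_filter.1 hv
      exact ⟨⟨((hFmem v).1 h1).1, h2⟩, ((hFmem v).1 h1).2⟩
    have := Set.ncard_le_ncard hsub (Set.toFinite _)
    rw [Set.ncard_coe_finset, Set.ncard_sdiff_singleton_of_mem (AddSubgroup.zero_mem _),
      ← Nat.card_coe_set_eq] at this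
    exact this.trans (Nat.sub_le_sub_right (hmax u hu) 1)
  have hcount : (Nat.card W - 1) * (p - 1) ≤ (p ^ (2 * r + 3) - p) * (M - 1) := by
    rw [← hFcard, ← hScard]
    calc F.card * (p - 1) ≤ ∑ v ∈ F, (S.filter fun u => u • v = v).card := by
          simpa using Finset.card_nsmul_le_sum F _ _ hlow
      _ = ∑ u ∈ S, (F.filter fun v => u • v = v).card := by
          simp only [Finset.card_filter]; exact Finset.sum_comm
      _ ≤ S.card * (M - 1) := by simpa using Finset.sum_le_card_nsmul S _ _ hhigh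
  have hM4 : p + 1 ≤ M := le_trans (Nat.le_self_pow (pow_ne_zero r hp.out.ne_zero) _) hM1
  have hK : p ^ (2 * r + 3) < (M ^ 2 + M + 1) * (p - 1) := by
    obtain ⟨q, rfl⟩ : ∃ q, p = q + 1 := ⟨p - 1, by omega⟩
    rw [Nat.add_sub_cancel]
    rcases r with _ | r
    · have : (q + 2) ^ 2 + (q + 2) + 1 ≤ M ^ 2 + M + 1 := by gcongr <;> omega
      calc (q + 1) ^ 3 < ((q + 2) ^ 2 + (q + 2) + 1) * q := by nlinarith
        _ ≤ _ := Nat.mul_le_mul_right _ this
    · have h1 : ∀ n : ℕ, n + 3 ≤ (q + 1) ^ (n + 1) := by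
        intro n
        induction n with
        | zero => simpa using hp3
        | succ n ihn => rw [pow_succ _ (n + 1)]; nlinarith
      have h2 : (q + 1) ^ (2 * (r + 1) + 3) ≤ M ^ 2 := by
        calc (q + 1) ^ (2 * (r + 1) + 3) ≤ (q + 1) ^ ((q + 1) ^ (r + 1) * 2) :=
              Nat.pow_le_pow_right q.succ_pos (by have := h1 r; omega)
          _ ≤ (q + 1 + 1) ^ ((q + 1) ^ (r + 1) * 2) := Nat.pow_le_pow_left (Nat.le_succ _) _
          _ ≤ M ^ 2 := by rw [pow_mul]; exact Nat.pow_le_pow_left hM1 2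
      calc (q + 1) ^ (2 * (r + 1) + 3) ≤ M ^ 2 := h2
        _ < (M ^ 2 + M + 1) * 1 := by omega
        _ ≤ _ := Nat.mul_le_mul_left _ (by omega)
  obtain ⟨m, hm⟩ : ∃ m, M = m + 1 := ⟨M - 1, by omega⟩
  have h3 : M ^ 3 - 1 = m * (M ^ 2 + M + 1) := by
    rw [hm, show (m + 1) ^ 3 = m * ((m + 1) ^ 2 + (m + 1) + 1) + 1 by ring, Nat.add_sub_cancel]
  have h4 := (Nat.mul_le_mul_right (p - 1) (Nat.sub_le_sub_right hMW 1)).trans hcount
  rw [h3, show M - 1 = m by omega, mul_comm (p ^ (2 * r + 3) - p), mul_assoc] at h4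
  have := Nat.le_of_mul_le_mul_left h4 (by omega)
  omega

end Cfsg.Agent.Avoid92
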