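import Cfsg.Agent.Avoid92.Blocks
import Cfsg.Agent.Avoid92.Xs
import Cfsg.Agent.Lib.PGroup.NormalRankTwo
import Cfsg.Agent.Lib.PGroup.Commutator
import Cfsg.Agent.Lib.Solvable.Basic

/-!
# A normal `p`-subgroup of an irreducible group, `p` odd

Either the group has blocks, or some vector is fixed by no element of order `p` of the subgroup.
-/

set_option autoImplicit false

namespace Cfsg.Agent.Avoid92

open scoped commutatorElement

variable {H V : Type*} [Group H] [AddCommGroup V] [DistribMulAction H V] {p : ℕ} [hp : Fact p.Prime]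
  [Finite H] [Finite V]

theorem exists_avoid_or_blocks (hp2 : p ≠ 2) (hV : ∀ v : V, p • v = 0 → v = 0)
    [FaithfulSMul H V] [Nontrivial V] (hirr : Irr H V) {R : Subgroup H} [hRn : R.Normal]
    (hR : IsPGroup p R) :
    (∃ v : V, v ≠ 0 ∧ ∀ x ∈ R, x ^ p = 1 → x • v = v → x = 1) ∨
      ∃ E : Set (AddSubgroup V), Blocks H E ∧ E.Nontrivial := by
  classical
  by_cases hblocks : ∃ E : Set (AddSubgroup V), Blocks H E ∧ E.Nontrivial
  · exact Or.inr hblocks
  refine Or.inl ?_
  have hsmall : ∀ N : Subgroup H, N.Normal → (∀ a ∈ N, ∀ b ∈ N, Commute a b) →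
      (∀ a ∈ N, a ^ p = 1) → Nat.card N ≤ p := fun N hN h1 h2 => by
    by_contra hlt
    exact hblocks (exists_blocks hV hirr h1 h2 (not_le.1 hlt))
  obtain ⟨v0, hv0⟩ := exists_ne (0 : V)
  by_cases hR1 : R = ⊥
  · exact ⟨v0, hv0, fun x hx _ _ => Subgroup.mem_bot.1 (hR1 ▸ hx)⟩
  -- the elements of order `p` of the centre
  let Z : Subgroup H :=
    { carrier := {x | x ∈ R ∧ x ^ p = 1 ∧ ∀ r ∈ R, Commute x r}
      one_mem' := ⟨R.one_mem, one_pow p, fun r _ => Commute.one_left r⟩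
      mul_mem' := fun {a b} ha hb => ⟨R.mul_mem ha.1 hb.1, by
        rw [(ha.2.2 b hb.1).mul_pow, ha.2.1, hb.2.1, one_mul],
        fun r hr => (ha.2.2 r hr).mul_left (hb.2.2 r hr)⟩
      inv_mem' := fun {a} ha => ⟨R.inv_mem ha.1, by rw [inv_pow, ha.2.1, inv_one],
        fun r hr => (ha.2.2 r hr).inv_left⟩ }
  have hconjR : ∀ (g : H), ∀ x ∈ R, ∀ y : H, (∀ r ∈ R, Commute x r) → y ∈ R →
      Commute (g * x * g⁻¹) y := fun g x _ y hx hy => by
    have := (hx _ (hRn.conj_mem' y hy g)).map (MulAut.conj g).toMonoidHom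
    simpa [mul_assoc] using this
  have hZn : Z.Normal := ⟨fun x hx g => ⟨hRn.conj_mem x hx.1 g, by rw [conj_pow, hx.2.1]; group,
    fun r hr => hconjR g x hx.1 r hx.2.2 hr⟩⟩
  obtain ⟨z, hz, hz1⟩ : ∃ z ∈ Z, z ≠ 1 := by
    have : Nontrivial R := (Subgroup.nontrivial_iff_ne_bot R).2 hR1
    obtain ⟨u, hu, hu1, hup⟩ := PGroup.exists_mem_pow_eq_one hR
      ((Subgroup.nontrivial_iff_ne_bot _).1 hR.center_nontrivial)
    exact ⟨u, ⟨u.2, congrArg Subtype.val hup, fun r hr =>
      (congrArg Subtype.val (Subgroup.mem_center_iff.1 hu ⟨r, hr⟩)).symm⟩,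
      fun he => hu1 (Subtype.ext he)⟩
  have hzp : z ^ p = 1 := hz.2.1
  have hzcard : Nat.card (Subgroup.zpowers z) = p := by
    rw [Nat.card_zpowers]; exact orderOf_eq_prime hzp hz1
  have hZz : Subgroup.zpowers z = Z := Subgroup.eq_of_le_of_card_ge (Subgroup.zpowers_le.2 hz)
    (hzcard.symm ▸ hsmall Z hZn (fun a ha b hb => ha.2.2 b hb.1) fun a ha => ha.2.1)
  have hfpf : ∀ w : V, z • w = w → w = 0 := fun w hw => by
    have hinv : ∀ g : H, ∀ u ∈ fixEl z, g • u ∈ (fixEl z : AddSubgroup V) := by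
      intro g u hu
      have h1 : g⁻¹ * z * g ∈ Subgroup.zpowers z := by
        rw [hZz]; exact hZn.conj_mem' z hz g
      obtain ⟨k, hk⟩ := Subgroup.mem_zpowers_iff.1 h1
      have h2 : (g⁻¹ * z * g) • u = u := hk ▸ smul_eq_of_mem_zpowers
        (show z • u = u from hu) (Subgroup.zpow_mem _ (Subgroup.mem_zpowers z) k)
      rwa [mul_smul, mul_smul, inv_smul_eq_iff] at h2
    have h3 := (hirr (fixEl z) hinv).resolve_right (fixEl_ne_top hz1)
    exact AddSubgroup.mem_bot.1 (h3 ▸ (hw : w ∈ fixEl z))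
  -- the elements of order `p` centralising `R` modulo `Z`
  let D : Subgroup H :=
    { carrier := {x | x ∈ R ∧ x ^ p = 1 ∧ ∀ r ∈ R, x * r * x⁻¹ * r⁻¹ ∈ Z}
      one_mem' := ⟨R.one_mem, one_pow p, fun r _ => by simp⟩
      mul_mem' := fun {a b} ha hb => by
        refine ⟨R.mul_mem ha.1 hb.1, ?_, fun r hr => ?_⟩
        · have hc : ⁅b, a⁆ ∈ Z := hb.2.2 a ha.1
          obtain ⟨k, hk⟩ := hp.out.dvd_choose_self two_ne_zero
            (lt_of_le_of_ne hp.out.two_le (Ne.symm hp2))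
          rw [PGroup.mul_pow_of_commute_commutator (hc.2.2 a ha.1) (hc.2.2 b hb.1), ha.2.1, hb.2.1,
            hk, pow_mul, hc.2.1, one_pow, one_mul, one_mul]
        · have h1 := hb.2.2 r hr
          have : a * b * r * (a * b)⁻¹ * r⁻¹ =
              (a * (b * r * b⁻¹ * r⁻¹) * a⁻¹) * (a * r * a⁻¹ * r⁻¹) := by group
          rw [this, ← (h1.2.2 a ha.1).eq, mul_inv_cancel_right]
          exact Z.mul_mem h1 (ha.2.2 r hr)
      inv_mem' := fun {a} ha => by
        refine ⟨R.inv_mem ha.1, by rw [inv_pow, ha.2.1, inv_one], fun r hr => ?_⟩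
        have : a⁻¹ * r * a⁻¹⁻¹ * r⁻¹ = a⁻¹ * (a * r * a⁻¹ * r⁻¹)⁻¹ * a := by group
        rw [this]
        exact hZn.conj_mem' _ (Z.inv_mem (ha.2.2 r hr)) a }
  have hDn : D.Normal := ⟨fun x hx g => ⟨hRn.conj_mem x hx.1 g,
    by rw [conj_pow, hx.2.1]; group, fun r hr => by
      have := hZn.conj_mem _ (hx.2.2 _ (hRn.conj_mem' r hr g)) g
      convert this using 1
      group⟩⟩
  have hzD : z ∈ D := ⟨hz.1, hzp, fun r hr => by
    rw [(hz.2.2 r hr).eq, mul_inv_cancel_right, mul_inv_cancel]; exact Z.one_mem⟩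
  have hX : Xs p D z := by
    refine ⟨hzD, fun d hd => hd.2.1, fun a ha b hb => hZz ▸ ha.2.2 b hb.1,
      fun d hd => (hz.2.2 d hd.1).symm, fun a ha hac => ?_, hz1⟩
    let A : Subgroup H := D ⊓ Subgroup.centralizer D
    have hAn : A.Normal := ⟨fun x hx g => ⟨hDn.conj_mem x hx.1 g, fun d hd => by
      have := congrArg (MulAut.conj g) (hx.2 _ (hDn.conj_mem' d hd g))
      simpa [mul_assoc] using this⟩⟩
    have hzA : Subgroup.zpowers z ≤ A :=
      Subgroup.zpowers_le.2 ⟨hzD, fun d hd => (hz.2.2 d hd.1).symm⟩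
    rw [Subgroup.eq_of_le_of_card_ge hzA (hzcard.symm ▸ hsmall A hAn
      (fun a ha b hb => (ha.2 b hb.1).symm) fun a ha => ha.1.2.1)]
    exact ⟨ha, fun d hd => (hac d hd).symm⟩
  let C : Subgroup H := R ⊓ Subgroup.centralizer D
  have hsplit : ∀ r ∈ R, ∃ d ∈ D, d * r ∈ C := fun r hr => by
    obtain ⟨d, hd, hdc⟩ := hX.exists_split (hz.2.2 r hr).symm fun d hd => hZz ▸ hd.2.2 r hr
    exact ⟨d, hd, R.mul_mem hd.1 hr, fun e he => (hdc e he).eq⟩
  have hDC : ∀ x ∈ D, x ∈ C → x ∈ Subgroup.zpowers z := fun x hx hxC =>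
    hX.centre x hx fun b hb => (hxC.2 b hb).symm
  have hzC : z ∈ C := ⟨hz.1, fun d hd => (hz.2.2 d hd.1).symm⟩
  have hCp : IsPGroup p C := hR.to_le inf_le_left
  have hcyc : IsCyclic C := by
    by_contra hnc
    obtain ⟨N, hNn, hNc, hNp, hNcard⟩ := PGroup.exists_normal_elementary_sq hCp hp2 hnc
    have hN0 : N ≠ ⊥ := fun hb => by
      rw [hb, Subgroup.card_bot] at hNcard
      exact (one_lt_pow₀ hp.out.one_lt two_ne_zero).ne hNcard
    obtain ⟨u, hu, hu1, hup⟩ := PGroup.exists_mem_pow_eq_one hCp (PGroup.inf_center_ne_bot hCp hN0)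
    have huZ : (u : H) ∈ Subgroup.zpowers z := by
      rw [hZz]
      refine ⟨u.2.1, congrArg Subtype.val hup, fun r hr => ?_⟩
      obtain ⟨d, hd, hdC⟩ := hsplit r hr
      have h1 : Commute (u : H) (d * r) :=
        (congrArg Subtype.val (Subgroup.mem_center_iff.1 hu.2 ⟨_, hdC⟩)).symm
      have h2 : Commute (u : H) d := (u.2.2 d hd).symm
      simpa using h2.inv_right.mul_right h1
    set M : Subgroup C := (Subgroup.zpowers z).subgroupOf C with hM
    have hMn : M.Normal := ⟨fun x hx c => by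
      obtain ⟨k, hk⟩ := Subgroup.mem_zpowers_iff.1 (Subgroup.mem_subgroupOf.1 hx)
      rw [Subgroup.mem_subgroupOf, Subgroup.coe_mul, Subgroup.coe_mul, Subgroup.coe_inv, ← hk,
        ← ((hz.2.2 c c.2.1).zpow_left k).eq, mul_inv_cancel_right]
      exact Subgroup.zpow_mem _ (Subgroup.mem_zpowers z) k⟩
    have hMcard : Nat.card M = p := by
      rw [hM, Nat.card_congr (Subgroup.subgroupOfEquivOfLe (Subgroup.zpowers_le.2 hzC)).toEquiv,
        hzcard]
    have huM : Subgroup.zpowers u = M := by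
      refine Subgroup.eq_of_le_of_card_ge (Subgroup.zpowers_le.2 (Subgroup.mem_subgroupOf.2 huZ)) ?_
      rw [hMcard, Nat.card_zpowers, orderOf_eq_prime hup hu1]
    have hMN : M ≤ N := huM ▸ Subgroup.zpowers_le.2 hu.1
    have hmap : Nat.card (N.map (QuotientGroup.mk' M)) = p := by
      have := Solvable.card_map_mk'_of_le N M hMN
      rw [hMcard, hNcard] at this
      have h0 := hp.out.pos
      nlinarith
    have : (N.map (QuotientGroup.mk' M)).Normal :=
      hNn.map _ (QuotientGroup.mk'_surjective M)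
    have hle := PGroup.le_center_of_card_eq_prime (hCp.to_quotient M) hmap
    have hNz : N ≤ M := fun n hn => by
      refine Subgroup.mem_subgroupOf.2 (hDC n ⟨n.2.1, congrArg Subtype.val (hNp n hn), fun r hr => ?_⟩
        n.2)
      obtain ⟨d, hd, hdC⟩ := hsplit r hr
      have h1 := Subgroup.mem_center_iff.1 (hle (Subgroup.mem_map_of_mem _ hn))
        (QuotientGroup.mk' M ⟨_, hdC⟩)
      have h2 : n * ⟨_, hdC⟩ * n⁻¹ * (⟨_, hdC⟩ : C)⁻¹ ∈ M := by
        rw [← QuotientGroup.eq_one_iff (N := M)]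
        show QuotientGroup.mk' M _ = 1
        simp only [map_mul, map_inv, ← h1, mul_inv_cancel_right, mul_inv_cancel]
      rw [Subgroup.mem_subgroupOf] at h2
      simp only [Subgroup.coe_mul, Subgroup.coe_inv] at h2
      rw [hZz] at h2
      have h3 := hZn.conj_mem' _ h2 d
      have h4 : Commute (n : H) d := (n.2.2 d hd).symm
      convert h3 using 1
      calc (n : H) * r * (n : H)⁻¹ * r⁻¹
          = ((n : H) * d⁻¹) * (d * r) * (n : H)⁻¹ * r⁻¹ := by group
        _ = d⁻¹ * ((n : H) * (d * r) * (n : H)⁻¹ * (d * r)⁻¹) * d := by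
          rw [h4.inv_right.eq]; group
    have := Subgroup.card_le_of_le hNz
    rw [hNcard, hMcard] at this
    nlinarith [hp.out.two_le]
  have hord : ∀ x ∈ R, x ^ p = 1 → x ∈ D := fun x hx hxp => by
    obtain ⟨d, hd, hdC⟩ := hsplit x hx
    have hcd : Commute d⁻¹ (d * x) := (hdC.2 _ (D.inv_mem hd))
    have hxe : x = d⁻¹ * (d * x) := by group
    have hcp : (d * x) ^ p = 1 := by
      rw [hxe, hcd.mul_pow, inv_pow, hd.2.1, inv_one, one_mul] at hxp
      exact hxp
    have : Fintype C := Fintype.ofFinite C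
    have hsub : (Finset.range p).image (fun i => (⟨z, hzC⟩ : C) ^ i) ⊆
        Finset.univ.filter (fun a : C => a ^ p = 1) := fun a ha => by
      obtain ⟨i, -, rfl⟩ := Finset.mem_image.1 ha
      refine Finset.mem_filter.2 ⟨Finset.mem_univ _, Subtype.ext ?_⟩
      show (z ^ i) ^ p = 1
      rw [← pow_mul, mul_comm, pow_mul, hzp, one_pow]
    have heq := Finset.eq_of_subset_of_card_le hsub <| by
      rw [Finset.card_image_of_injOn, Finset.card_range]
      · exact IsCyclic.card_pow_eq_one_le hp.out.pos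
      · intro i hi j hj hij
        have h1 : z ^ i = z ^ j := congrArg Subtype.val hij
        simp only [Finset.coe_range, Set.mem_Iio] at hi hj
        refine pow_injOn_Iio_orderOf ?_ ?_ h1
        · simpa [orderOf_eq_prime hzp hz1] using hi
        · simpa [orderOf_eq_prime hzp hz1] using hj
    have hmem : (⟨_, hdC⟩ : C) ∈ Finset.univ.filter (fun a : C => a ^ p = 1) :=
      Finset.mem_filter.2 ⟨Finset.mem_univ _, Subtype.ext hcp⟩
    rw [← heq] at hmem
    obtain ⟨i, -, hi⟩ := Finset.mem_image.1 hmem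
    have hi' : z ^ i = d * x := congrArg Subtype.val hi
    rw [hxe, ← hi']
    exact D.mul_mem (D.inv_mem hd) (D.pow_mem hzD i)
  obtain ⟨w, -, hw0, hw⟩ := hX.exists_avoid hV hp2 (W := ⊤) top_ne_bot (fun _ _ _ _ => trivial)
    fun w _ => hfpf w
  refine ⟨w, hw0, fun x hx hxp hxw => ?_⟩
  by_contra hx1
  by_cases hxz : x ∈ Subgroup.zpowers z
  · have he : Subgroup.zpowers x = Subgroup.zpowers z :=
      Subgroup.eq_of_le_of_card_ge (Subgroup.zpowers_le.2 hxz) (by
        rw [hzcard, Nat.card_zpowers, orderOf_eq_prime hxp hx1])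
    exact hw0 (hfpf w (smul_eq_of_mem_zpowers hxw (he.symm ▸ Subgroup.mem_zpowers z)))
  · exact hw x (hord x hx hxp) hxz hxw

end Cfsg.Agent.Avoid92
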